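import Groth.Prelude.Def_Hyper
import Mathlib

/-! Coverings of semi-representable objects: pointwise criterion, composition, base change. -/

set_option autoImplicit false

universe u

open CategoryTheory CategoryTheory.Limits Opposite

noncomputable section

namespace Groth.Agent.HypSR

section General

variable {D : Type u} [Category.{u} D] {K L M P : FormalCoproduct.{u} D}

/-- Arrows along which a point of `L` lifts to `K`. -/
def sv (f : K ⟶ L) {W : D} (x : (FormalCoproduct.incl D).obj W ⟶ L) : Sieve W where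
  arrows V g := ∃ y : (FormalCoproduct.incl D).obj V ⟶ K, y ≫ f = (FormalCoproduct.incl D).map g ≫ x
  downward_closed := by
    rintro V V' g ⟨y, hy⟩ h
    exact ⟨(FormalCoproduct.incl D).map h ≫ y, by rw [Category.assoc, hy, Functor.map_comp, Category.assoc]⟩

theorem sv_pullback (f : K ⟶ L) {W W' : D} (g : W' ⟶ W) (x : (FormalCoproduct.incl D).obj W ⟶ L) :
    sv f ((FormalCoproduct.incl D).map g ≫ x) = (sv f x).pullback g := by
  ext V h
  constructor
  · rintro ⟨y, hy⟩
    exact ⟨y, by rw [hy, Functor.map_comp, Category.assoc]⟩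
  · rintro ⟨y, hy⟩
    exact ⟨y, by rw [hy, Functor.map_comp, Category.assoc]⟩

/-- The point of `L` at an index. -/
def pt (L : FormalCoproduct.{u} D) (j : L.I) : (FormalCoproduct.incl D).obj (L.obj j) ⟶ L :=
  FormalCoproduct.Hom.fromIncl j (𝟙 _)

theorem eq_map_pt {W : D} (x : (FormalCoproduct.incl D).obj W ⟶ L) :
    x = (FormalCoproduct.incl D).map (x.φ PUnit.unit) ≫ pt L (x.f PUnit.unit) := by
  refine FormalCoproduct.hom_ext ?_ ?_
  · funext i
    cases i
    rfl
  · intro i
    cases i
    simp [pt]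
    rfl

theorem sv_pt_le (f : K ⟶ L) (j : L.I) :
    sv f (pt L j) = Sieve.ofArrows (fun i : {i : K.I // f.f i = j} => K.obj i.1)
      (fun i => f.φ i.1 ≫ eqToHom (congrArg L.obj i.2)) := by
  ext V g
  rw [Sieve.mem_ofArrows_iff]
  constructor
  · rintro ⟨y, hy⟩
    rw [FormalCoproduct.hom_ext_iff] at hy
    obtain ⟨hf, hφ⟩ := hy
    have hj : f.f (y.f PUnit.unit) = j := congrFun hf PUnit.unit
    refine ⟨⟨y.f PUnit.unit, hj⟩, y.φ PUnit.unit, ?_⟩
    have := hφ PUnit.unit
    have e := this.symm
    simp [pt] at e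
    erw [Category.comp_id] at e
    exact e
  · rintro ⟨⟨i, rfl⟩, h, rfl⟩
    exact ⟨FormalCoproduct.Hom.fromIncl i h, FormalCoproduct.hom_ext (by funext x; rfl) (fun x => by
      cases x
      show (h ≫ f.φ i) ≫ 𝟙 _ = _
      erw [Category.comp_id]
      simp [pt]
      erw [Category.comp_id])⟩

variable (J : GrothendieckTopology D)

/-- A morphism is a covering iff every point of the target lifts locally. -/
theorem covering_iff (f : K ⟶ L) :
    Hyper.IsSRCovering J f ↔ ∀ (W : D) (x : (FormalCoproduct.incl D).obj W ⟶ L), sv f x ∈ J W := by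
  constructor
  · intro h W x
    rw [eq_map_pt x]
    erw [sv_pullback, sv_pt_le]
    exact J.pullback_stable _ (h _)
  · intro h j
    rw [← sv_pt_le]
    exact h _ _

variable {J}

theorem covering_comp {f : K ⟶ L} {g : L ⟶ M} (hf : Hyper.IsSRCovering J f) (hg : Hyper.IsSRCovering J g) :
    Hyper.IsSRCovering J (f ≫ g) := by
  rw [covering_iff] at hf hg ⊢
  intro W x
  refine J.transitive (hg W x) _ ?_
  rintro V h ⟨y, hy⟩
  refine J.superset_covering ?_ (hf V y)
  rintro V' k ⟨z, hz⟩
  exact ⟨z, by rw [← Category.assoc, hz, Category.assoc, hy, Functor.map_comp, Category.assoc]⟩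

theorem covering_of_isPullback {fst : P ⟶ K} {snd : P ⟶ M} {f : K ⟶ L} {g : M ⟶ L}
    (h : IsPullback fst snd f g) (hf : Hyper.IsSRCovering J f) : Hyper.IsSRCovering J snd := by
  rw [covering_iff] at hf ⊢
  intro W x
  refine J.superset_covering ?_ (hf W (x ≫ g))
  rintro V k ⟨y, hy⟩
  exact ⟨h.lift y ((FormalCoproduct.incl D).map k ≫ x) (by rw [hy, Category.assoc]), h.lift_snd _ _ _⟩

theorem covering_of_isIso (f : K ⟶ L) [IsIso f] : Hyper.IsSRCovering J f := by
  rw [covering_iff]
  intro W x
  refine J.superset_covering ?_ (J.top_mem W)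
  intro V k _
  exact ⟨((FormalCoproduct.incl D).map k ≫ x) ≫ inv f, by simp⟩

end General

section Hypercovering

variable {C : Type u} [SmallCategory C] {J : GrothendieckTopology C} {X : C}

/-- A covering of a family covering `X` covers `X`. -/
theorem covers_of_covering {K P : FormalCoproduct.{u} (Over X)} (f : P ⟶ K)
    (hf : Hyper.IsSRCovering (J.over X) f)
    (hK : Sieve.ofArrows (fun i => (K.obj i).left) (fun i => (K.obj i).hom) ∈ J X) :
    Sieve.ofArrows (fun i => (P.obj i).left) (fun i => (P.obj i).hom) ∈ J X := by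
  refine J.transitive hK _ ?_
  intro W h hh
  obtain ⟨i, g, rfl⟩ := (Sieve.mem_ofArrows_iff _ _ h).1 hh
  have h1 := J.pullback_stable g ((GrothendieckTopology.mem_over_iff J _).1
    ((covering_iff (J.over X) f).1 hf (K.obj i) (pt K i)))
  refine J.superset_covering ?_ h1
  intro V k hk
  have hk' := (Sieve.overEquiv_iff _ _).1 hk
  obtain ⟨y, hy⟩ := hk'
  refine (Sieve.mem_ofArrows_iff _ _ _).2 ⟨y.f PUnit.unit, (y.φ PUnit.unit).left, ?_⟩
  have := Over.w (y.φ PUnit.unit)
  refine Eq.trans ?_ this.symm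
  exact (Category.assoc _ _ _).symm

end Hypercovering

end Groth.Agent.HypSR
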