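import Groth.Agent.HypSR.Dies
import Mathlib

/-! Vanishing of cohomology via Čech classes dying on hypercoverings. -/

set_option autoImplicit false
set_option maxHeartbeats 1000000

universe u

open CategoryTheory CategoryTheory.Limits Opposite Abelian

noncomputable section

namespace Groth.Agent.HypSR

variable {C : Type u} [SmallCategory C] {X : C} {J : GrothendieckTopology C} [HasPullbacks C]

/-- The class of a section in degree zero. -/
def cls0 (K : SimplicialObject (FormalCoproduct.{u} (Over X))) (F : Sheaf J AddCommGrpCat.{u}) :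
    F.obj.obj (op X) →+ Hyper.cechH X K F.obj 0 :=
  ((Hyper.cechCx X K F.obj).liftCycles (HypSite.res0 K F) 1 (by simp) (HypSite.res0_d K F) ≫
    (Hyper.cechCx X K F.obj).homologyπ 0).hom

theorem cls0_map (K : SimplicialObject (FormalCoproduct.{u} (Over X))) {F G : Sheaf J AddCommGrpCat.{u}}
    (φ : F ⟶ G) (s : F.obj.obj (op X)) : hη K φ.hom 0 (cls0 K F s) = cls0 K G (φ.hom.app (op X) s) := by
  let ψ : Hyper.cechCx X K F.obj ⟶ Hyper.cechCx X K G.obj := (cF K).map φ.hom
  have h : (Hyper.cechCx X K F.obj).liftCycles (HypSite.res0 K F) 1 (by simp) (HypSite.res0_d K F) ≫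
      HomologicalComplex.cyclesMap ψ 0 =
      φ.hom.app (op X) ≫ (Hyper.cechCx X K G.obj).liftCycles (HypSite.res0 K G) 1 (by simp) (HypSite.res0_d K G) := by
    rw [← cancel_mono ((Hyper.cechCx X K G.obj).iCycles 0)]
    simp only [Category.assoc, HomologicalComplex.cyclesMap_i, HomologicalComplex.liftCycles_i,
      HomologicalComplex.liftCycles_i_assoc]
    refine Pi.hom_ext (f := HypSite.cf K G 0) _ _ fun i => ?_
    have e1 : ψ.f 0 ≫ Pi.π (HypSite.cf K G 0) i =
        Pi.π (HypSite.cf K F 0) i ≫ φ.hom.app (op ((K.obj (op (SimplexCategory.mk 0))).obj i).left) :=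
      Pi.map_π (fun j : (K.obj (op (SimplexCategory.mk 0))).I =>
        φ.hom.app (op ((K.obj (op (SimplexCategory.mk 0))).obj j).left)) i
    have l1 : HypSite.res0 K F ≫ Pi.π (HypSite.cf K F 0) i =
        F.obj.map ((K.obj (op (SimplexCategory.mk 0))).obj i).hom.op := Pi.lift_π _ _
    have l2 : HypSite.res0 K G ≫ Pi.π (HypSite.cf K G 0) i =
        G.obj.map ((K.obj (op (SimplexCategory.mk 0))).obj i).hom.op := Pi.lift_π _ _
    exact (Category.assoc _ _ _).trans ((congrArg (HypSite.res0 K F ≫ ·) e1).trans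
      ((Category.assoc _ _ _).symm.trans ((congrArg (· ≫ _) l1).trans ((φ.hom.naturality _).trans
        ((congrArg (φ.hom.app (op X) ≫ ·) l2).symm.trans (Category.assoc _ _ _).symm)))))
  have h2 : ((Hyper.cechCx X K F.obj).liftCycles (HypSite.res0 K F) 1 (by simp) (HypSite.res0_d K F) ≫
      (Hyper.cechCx X K F.obj).homologyπ 0) ≫ HomologicalComplex.homologyMap ψ 0 =
      φ.hom.app (op X) ≫ (Hyper.cechCx X K G.obj).liftCycles (HypSite.res0 K G) 1 (by simp) (HypSite.res0_d K G) ≫
        (Hyper.cechCx X K G.obj).homologyπ 0 := by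
    erw [Category.assoc, HomologicalComplex.homologyπ_naturality]
    rw [← Category.assoc, h, Category.assoc]
  exact ConcreteCategory.congr_hom h2 s

theorem cls0_res {K L : SimplicialObject (FormalCoproduct.{u} (Over X))} (f : L ⟶ K)
    (F : Sheaf J AddCommGrpCat.{u}) (s : F.obj.obj (op X)) :
    Hyper.cechHMap X f F.obj 0 (cls0 K F s) = cls0 L F s := by
  have h : (Hyper.cechCx X K F.obj).liftCycles (HypSite.res0 K F) 1 (by simp) (HypSite.res0_d K F) ≫
      HomologicalComplex.cyclesMap (Hyper.cechMap X f F.obj) 0 =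
      (Hyper.cechCx X L F.obj).liftCycles (HypSite.res0 L F) 1 (by simp) (HypSite.res0_d L F) := by
    rw [← cancel_mono ((Hyper.cechCx X L F.obj).iCycles 0)]
    simp only [Category.assoc, HomologicalComplex.cyclesMap_i, HomologicalComplex.liftCycles_i,
      HomologicalComplex.liftCycles_i_assoc, cechMap_f]
    refine Pi.hom_ext (f := HypSite.cf L F 0) _ _ fun i => ?_
    erw [Category.assoc, Pi.lift_π, Pi.lift_π_assoc, Pi.lift_π]
    exact (F.obj.map_comp _ _).symm.trans (congrArg F.obj.map (congrArg Quiver.Hom.op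
      (Over.w ((f.app (op (SimplexCategory.mk 0))).φ i))))
  have h2 : ((Hyper.cechCx X K F.obj).liftCycles (HypSite.res0 K F) 1 (by simp) (HypSite.res0_d K F) ≫
      (Hyper.cechCx X K F.obj).homologyπ 0) ≫ HomologicalComplex.homologyMap (Hyper.cechMap X f F.obj) 0 =
      (Hyper.cechCx X L F.obj).liftCycles (HypSite.res0 L F) 1 (by simp) (HypSite.res0_d L F) ≫
        (Hyper.cechCx X L F.obj).homologyπ 0 := by
    rw [Category.assoc, HomologicalComplex.homologyπ_naturality, ← Category.assoc, h]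
  exact ConcreteCategory.congr_hom h2 s

variable [∀ (n : ℕ) (F : (SimplexCategory.Truncated n)ᵒᵖ ⥤ Limits.FormalCoproduct.{u} (Over X)),
    (SimplexCategory.Truncated.inclusion n).op.HasRightKanExtension F]

theorem cls0_bijective (K : SimplicialObject (FormalCoproduct.{u} (Over X)))
    (hK : Hyper.IsHypercovering J X K) (F : Sheaf J AddCommGrpCat.{u}) : Function.Bijective (cls0 K F) := by
  haveI := (Hyper.cechCx X K F.obj).isIso_homologyπ₀
  have hπ : Function.Bijective ((Hyper.cechCx X K F.obj).homologyπ 0) :=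
    ConcreteCategory.bijective_of_isIso _
  let lc := (Hyper.cechCx X K F.obj).liftCycles (HypSite.res0 K F) 1 (by simp) (HypSite.res0_d K F)
  have e : ∀ a, (Hyper.cechCx X K F.obj).iCycles 0 (lc a) = HypSite.res0 K F a := fun a =>
    ConcreteCategory.congr_hom (HomologicalComplex.liftCycles_i _ (HypSite.res0 K F) 1 (by simp)
      (HypSite.res0_d K F)) a
  refine hπ.comp (f := lc) ⟨fun a b hab => HypSite.res0_injective K F hK ?_, fun z => ?_⟩
  · rw [← e a, ← e b, hab]
  · have hz : (Hyper.cechCx X K F.obj).d 0 1 ((Hyper.cechCx X K F.obj).iCycles 0 z) = 0 := by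
      rw [← ConcreteCategory.comp_apply, HomologicalComplex.iCycles_d]
      rfl
    obtain ⟨a, ha⟩ := HypSite.exists_res0 K F hK _ hz
    refine ⟨a, (AddCommGrpCat.mono_iff_injective ((Hyper.cechCx X K F.obj).iCycles 0)).1 inferInstance ?_⟩
    exact (e a).trans ha

variable (J X) in
theorem exists_hypercovering :
    ∃ K : SimplicialObject (FormalCoproduct.{u} (Over X)), Hyper.IsHypercovering J X K := by
  have hT : IsTerminal ((FormalCoproduct.incl (Over X)).obj (Over.mk (𝟙 X))) :=
    FormalCoproduct.isTerminalIncl _ Over.mkIdTerminal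
  refine ⟨(Functor.const _).obj ((FormalCoproduct.incl (Over X)).obj (Over.mk (𝟙 X))), ?_, fun n => ?_⟩
  · refine J.superset_covering ?_ (J.top_mem X)
    intro V g _
    exact (Sieve.mem_ofArrows_iff _ _ _).2 ⟨PUnit.unit, g, (Category.comp_id g).symm⟩
  · set K : SimplicialObject (FormalCoproduct.{u} (Over X)) :=
      (Functor.const _).obj ((FormalCoproduct.incl (Over X)).obj (Over.mk (𝟙 X))) with hKdef
    have htr : IsTerminal ((SimplicialObject.truncation n).obj K) :=
      IsTerminal.ofUniqueHom (fun A => { app := fun a => hT.from _, naturality := fun _ _ _ => hT.hom_ext _ _ })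
        fun A m => NatTrans.ext (funext fun a => hT.hom_ext _ _)
    haveI : (SimplicialObject.Truncated.cosk (C := FormalCoproduct.{u} (Over X)) n).IsRightAdjoint :=
      (SimplicialObject.coskAdj n).isRightAdjoint
    have h1 : IsTerminal (((SimplicialObject.truncation n ⋙ SimplicialObject.Truncated.cosk n).obj K).obj
        (op (SimplexCategory.mk (n + 1)))) :=
      IsTerminal.isTerminalObj ((evaluation _ _).obj (op (SimplexCategory.mk (n + 1)))) _
        (IsTerminal.isTerminalObj (SimplicialObject.Truncated.cosk n) _ htr)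
    haveI : IsIso (((SimplicialObject.coskAdj n).unit.app K).app (op (SimplexCategory.mk (n + 1)))) :=
      ⟨hT.from _, hT.hom_ext _ _, h1.hom_ext _ _⟩
    exact covering_of_isIso _

theorem dies_zero_iff (F : Sheaf J AddCommGrpCat.{u}) :
    Subsingleton (F.obj.obj (op X)) ↔ Dies X J F.obj 0 := by
  constructor
  · intro h K hK ξ
    obtain ⟨a, rfl⟩ := (cls0_bijective K hK F).2 ξ
    exact ⟨K, 𝟙 K, hK, by rw [Subsingleton.elim a 0, map_zero, map_zero]⟩
  · intro h
    refine subsingleton_of_forall_eq 0 fun a => ?_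
    obtain ⟨K, hK⟩ := exists_hypercovering X J
    obtain ⟨L, f, hL, hf⟩ := h K hK (cls0 K F a)
    rw [cls0_res] at hf
    exact (cls0_bijective L hL F).1 (hf.trans (map_zero _).symm)

section Shift

variable {S : ShortComplex (Sheaf J AddCommGrpCat.{u})} (hS : S.ShortExact)
include hS

omit [∀ (n : ℕ) (F : (SimplexCategory.Truncated n)ᵒᵖ ⥤ Limits.FormalCoproduct.{u} (Over X)),
    (SimplexCategory.Truncated.inclusion n).op.HasRightKanExtension F] in
theorem isZero_seq_coker :
    IsZero ((presheafToSheaf J AddCommGrpCat.{u}).obj (cokSeq S.g.hom).X₃) := by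
  haveI := hS.epi_g
  haveI : Epi ((presheafToSheaf J AddCommGrpCat.{u}).map ((sheafToPresheaf J AddCommGrpCat.{u}).map S.g)) := by
    have h : (presheafToSheaf J AddCommGrpCat.{u}).map ((sheafToPresheaf J AddCommGrpCat.{u}).map S.g) =
        (sheafificationAdjunction J AddCommGrpCat.{u}).counit.app _ ≫ S.g ≫
          inv ((sheafificationAdjunction J AddCommGrpCat.{u}).counit.app _) := by
      rw [← Category.assoc, IsIso.eq_comp_inv]
      exact (sheafificationAdjunction J AddCommGrpCat.{u}).counit.naturality S.g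
    rw [h]
    infer_instance
  exact isZero_coker_coim ((sheafToPresheaf J AddCommGrpCat.{u}).map S.g)

theorem dies_kernel_iff (q : ℕ) : Dies X J (kernel S.g.hom) q ↔ Dies X J S.X₁.obj q := by
  haveI := hS.mono_f
  exact dies_iff_of_isIso (IsLimit.conePointUniqueUpToIso (kernelIsKernel S.g.hom)
    (show IsLimit (KernelFork.ofι S.f.hom (congrArg (fun t => t.hom) S.zero)) from
      KernelFork.mapIsLimit _ hS.fIsKernel (sheafToPresheaf J AddCommGrpCat.{u}))).hom q

theorem dies_succ_succ_iff (hI : ∀ q, Dies X J S.X₂.obj (q + 1)) (q : ℕ) :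
    Dies X J S.X₁.obj (q + 2) ↔ Dies X J S.X₃.obj (q + 1) := by
  have hT := coimSeq_shortExact S.g.hom
  refine (dies_kernel_iff hS (q + 2)).symm.trans (Iff.trans ?_
    (dies_iff_of_coker (cokSeq_shortExact S.g.hom) (isZero_seq_coker hS) (q + 1)))
  exact ⟨dies_three hT (hI q), dies_one hT (hI (q + 1))⟩

theorem dies_one_iff (hI : ∀ q, Dies X J S.X₂.obj (q + 1)) :
    Function.Surjective (S.g.hom.app (op X)) ↔ Dies X J S.X₁.obj 1 := by
  rw [← dies_kernel_iff hS 1]
  have hT := coimSeq_shortExact S.g.hom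
  have hT' := cokSeq_shortExact S.g.hom
  have hz := isZero_seq_coker hS
  let Tf : kernel S.g.hom ⟶ S.X₂.obj := kernel.ι S.g.hom
  let Tg : S.X₂.obj ⟶ Abelian.coimage S.g.hom := Abelian.coimage.π S.g.hom
  let Tf' : Abelian.coimage S.g.hom ⟶ S.X₃.obj := Abelian.factorThruCoimage S.g.hom
  let Tg' : S.X₃.obj ⟶ cokernel Tf' := cokernel.π Tf'
  have hg : Tg ≫ Tf' = S.g.hom := Abelian.coimage.fac _
  have hcomp : ∀ (K : SimplicialObject (FormalCoproduct.{u} (Over X))) (w : Hyper.cechH X K S.X₂.obj 0),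
      hη K Tf' 0 (hη K Tg 0 w) = hη K S.g.hom 0 w := fun K w => by
    show ((HomologicalComplex.homologyMap ((cF K).map Tg) 0) ≫
      (HomologicalComplex.homologyMap ((cF K).map Tf') 0)).hom w = _
    rw [← HomologicalComplex.homologyMap_comp, ← (cF K).map_comp, hg]
  constructor
  · intro hs K hK ξ
    obtain ⟨L, f, hL, hf⟩ := hI 0 K hK (hη K Tf 1 ξ)
    rw [hη_natural] at hf
    obtain ⟨y, hy⟩ := exact₁ hT L 0 _ hf
    obtain ⟨t, ht⟩ := (cls0_bijective L hL S.X₃).2 (hη L Tf' 0 y)
    obtain ⟨s, rfl⟩ := hs t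
    refine ⟨L, f, hL, ?_⟩
    have h3 : hη L Tg 0 (cls0 L S.X₂ s) = y := mono_zero hT' L (by rw [hcomp, cls0_map, ht])
    rw [← hy, ← h3]
    exact delta_g hT L 0 _
  · intro hd t
    obtain ⟨K, hK⟩ := exists_hypercovering X J
    obtain ⟨L, f, hL, hf⟩ := dies_of_sheafify_zero hz 0 K hK (hη K Tg' 0 (cls0 K S.X₃ t))
    rw [hη_natural, cls0_res] at hf
    obtain ⟨y, hy⟩ := exact₂ hT' L 0 _ hf
    obtain ⟨M, g, hM, hg'⟩ := hd L hL (hδ hT L 0 y)
    rw [hδ_natural hT] at hg'
    obtain ⟨w, hw⟩ := exact₃ hT M 0 _ hg'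
    obtain ⟨s, rfl⟩ := (cls0_bijective M hM S.X₂).2 w
    refine ⟨s, (cls0_bijective M hM S.X₃).1 ?_⟩
    rw [← cls0_map, ← hcomp, hw, ← hη_natural, hy, cls0_res]

theorem step_one [Injective S.X₂] : Subsingleton (CohSite.HU S.X₁ 1 X) ↔ Dies X J S.X₁.obj 1 := by
  refine Iff.trans ?_ (dies_one_iff hS fun q => dies_of_injective S.X₂ q)
  exact ⟨fun h => @SiteCoh.sections_surjective _ _ _ S hS X h, fun h =>
    SiteCoh.subsingleton_ext_one_of_lift hS (CohCx.freeSheaf J X)
      ((SiteCoh.exists_lift_iff_surjective X).mpr h)⟩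

theorem step_succ [Injective S.X₂] (q : ℕ)
    (ih : Subsingleton (CohSite.HU S.X₃ (q + 1) X) ↔ Dies X J S.X₃.obj (q + 1)) :
    Subsingleton (CohSite.HU S.X₁ (q + 2) X) ↔ Dies X J S.X₁.obj (q + 2) := by
  refine Iff.trans ?_ (ih.trans (dies_succ_succ_iff hS (fun q => dies_of_injective S.X₂ q) q).symm)
  exact (SiteCoh.shiftEquiv hS (CohCx.freeSheaf J X) (q + 1)).symm.toEquiv.subsingleton_congr

end Shift

/-- Cohomology vanishes iff every Čech class dies on a refinement. -/
theorem subsingleton_iff_dies (F : Sheaf J AddCommGrpCat.{u}) (q : ℕ) :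
    Subsingleton (CohSite.HU F q X) ↔ Dies X J F.obj q := by
  induction q generalizing F with
  | zero => exact (SiteCoh.hu0 F X).toEquiv.subsingleton_congr.trans (dies_zero_iff F)
  | succ q ih =>
    have hS : (SiteCoh.embedSeq F).ShortExact := SiteCoh.embedSeq_shortExact F
    cases q with
    | zero => exact step_one (S := SiteCoh.embedSeq F) hS
    | succ q => exact step_succ (S := SiteCoh.embedSeq F) hS q (ih _)

end Groth.Agent.HypSR
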