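import Groth.Agent.HypSR.Kill
import Groth.Agent.HypSS.Main
import Groth.Agent.HypSite.H0
import Groth.Agent.SiteCoh.Basic
import Groth.Agent.HypAcyc.Shift
import Mathlib

/-! Classes dying on refinements of hypercoverings: exact sequences and local isomorphisms. -/

set_option autoImplicit false
set_option maxHeartbeats 1000000

universe u

open CategoryTheory CategoryTheory.Limits Opposite

noncomputable section

namespace Groth.Agent.HypSR

variable {C : Type u} [SmallCategory C] {X : C}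

/-- The Čech complex as a functor of the presheaf. -/
abbrev cF (K : SimplicialObject (FormalCoproduct.{u} (Over X))) :
    (Cᵒᵖ ⥤ AddCommGrpCat.{u}) ⥤ CochainComplex AddCommGrpCat.{u} ℕ :=
  (Functor.whiskeringLeft _ _ _).obj (Over.forget X).op ⋙ HypSS.cechF K

theorem cF_shortExact (K : SimplicialObject (FormalCoproduct.{u} (Over X)))
    {T : ShortComplex (Cᵒᵖ ⥤ AddCommGrpCat.{u})} (hT : T.ShortExact) : (T.map (cF K)).ShortExact :=
  HypSS.cechF_shortExact K _
    (hT.map_of_exact ((Functor.whiskeringLeft _ _ _).obj (Over.forget X).op))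

theorem cechMap_f {K L : SimplicialObject (FormalCoproduct.{u} (Over X))} (f : L ⟶ K)
    (P : Cᵒᵖ ⥤ AddCommGrpCat.{u}) (n : ℕ) :
    (Hyper.cechMap X f P).f n = ((FormalCoproduct.evalOp.{u} (Over X) AddCommGrpCat.{u}).obj
      ((Over.forget X).op ⋙ P)).map (f.app (op (SimplexCategory.mk n))).op := rfl

theorem cechMap_comp {K L M : SimplicialObject (FormalCoproduct.{u} (Over X))} (g : M ⟶ L) (f : L ⟶ K)
    (P : Cᵒᵖ ⥤ AddCommGrpCat.{u}) :
    Hyper.cechMap X (g ≫ f) P = Hyper.cechMap X f P ≫ Hyper.cechMap X g P := by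
  refine HomologicalComplex.hom_ext _ _ fun n => ?_
  rw [HomologicalComplex.comp_f, cechMap_f, cechMap_f, cechMap_f, NatTrans.comp_app, op_comp, Functor.map_comp]
  rfl

theorem cechHMap_comp {K L M : SimplicialObject (FormalCoproduct.{u} (Over X))} (g : M ⟶ L) (f : L ⟶ K)
    (P : Cᵒᵖ ⥤ AddCommGrpCat.{u}) (q : ℕ) (x : Hyper.cechH X K P q) :
    Hyper.cechHMap X (g ≫ f) P q x = Hyper.cechHMap X g P q (Hyper.cechHMap X f P q x) := by
  show (HomologicalComplex.homologyMap (Hyper.cechMap X (g ≫ f) P) q).hom x = _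
  rw [cechMap_comp, HomologicalComplex.homologyMap_comp]
  rfl

theorem cechMap_natural {K L : SimplicialObject (FormalCoproduct.{u} (Over X))} (f : L ⟶ K)
    {P Q : Cᵒᵖ ⥤ AddCommGrpCat.{u}} (η : P ⟶ Q) :
    (cF K).map η ≫ Hyper.cechMap X f Q = Hyper.cechMap X f P ≫ (cF L).map η := by
  refine HomologicalComplex.hom_ext _ _ fun n => ?_
  exact (((FormalCoproduct.evalOp.{u} (Over X) AddCommGrpCat.{u}).map
    (Functor.whiskerLeft (Over.forget X).op η)).naturality (f.app (op (SimplexCategory.mk n))).op).symm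

/-- The map induced on Čech cohomology by a map of presheaves. -/
abbrev hη (K : SimplicialObject (FormalCoproduct.{u} (Over X))) {P Q : Cᵒᵖ ⥤ AddCommGrpCat.{u}}
    (η : P ⟶ Q) (q : ℕ) : Hyper.cechH X K P q →+ Hyper.cechH X K Q q :=
  (HomologicalComplex.homologyMap ((cF K).map η) q).hom

theorem hη_natural {K L : SimplicialObject (FormalCoproduct.{u} (Over X))} (f : L ⟶ K)
    {P Q : Cᵒᵖ ⥤ AddCommGrpCat.{u}} (η : P ⟶ Q) (q : ℕ) (x : Hyper.cechH X K P q) :
    Hyper.cechHMap X f Q q (hη K η q x) = hη L η q (Hyper.cechHMap X f P q x) := by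
  have h := congrArg (fun t => HomologicalComplex.homologyMap t q) (cechMap_natural f η)
  simp only [HomologicalComplex.homologyMap_comp] at h
  exact ConcreteCategory.congr_hom h x

variable [HasPullbacks C] (J : GrothendieckTopology C) (X)
  [∀ (n : ℕ) (F : (SimplexCategory.Truncated n)ᵒᵖ ⥤ Limits.FormalCoproduct.{u} (Over X)),
    (SimplexCategory.Truncated.inclusion n).op.HasRightKanExtension F]

/-- Every class dies on some refinement. -/
def Dies (G : Cᵒᵖ ⥤ AddCommGrpCat.{u}) (q : ℕ) : Prop :=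
  ∀ K : SimplicialObject (FormalCoproduct.{u} (Over X)), Hyper.IsHypercovering J X K →
    ∀ ξ : Hyper.cechH X K G q, ∃ (L : SimplicialObject (FormalCoproduct.{u} (Over X))) (f : L ⟶ K),
      Hyper.IsHypercovering J X L ∧ Hyper.cechHMap X f G q ξ = 0

variable {J X}

theorem dies_of_sheafify_zero {N : Cᵒᵖ ⥤ AddCommGrpCat.{u}}
    (hN : IsZero ((presheafToSheaf J AddCommGrpCat.{u}).obj N)) (q : ℕ) : Dies X J N q :=
  fun K hK ξ => exists_kill K hK hN q ξ

theorem dies_of_injective (I : Sheaf J AddCommGrpCat.{u}) [Injective I] (q : ℕ) : Dies X J I.obj (q + 1) :=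
  fun K hK ξ => ⟨K, 𝟙 K, hK, @Subsingleton.elim _ (AddCommGrpCat.subsingleton_of_isZero
    (HypAcyc.isZero_homology_injective (HypAcyc.locFill K (HypSite.isHypercoveringSite J X K hK))
      ((SiteCoh.restrU J X).obj I) q)) _ _⟩

section Sequence

variable {T : ShortComplex (Cᵒᵖ ⥤ AddCommGrpCat.{u})} (hT : T.ShortExact)
include hT

/-- Connecting map. -/
abbrev hδ (K : SimplicialObject (FormalCoproduct.{u} (Over X))) (q : ℕ) :
    Hyper.cechH X K T.X₃ q →+ Hyper.cechH X K T.X₁ (q + 1) :=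
  ((cF_shortExact K hT).δ q (q + 1) rfl).hom

omit [HasPullbacks C] in
theorem exact₂ (K : SimplicialObject (FormalCoproduct.{u} (Over X))) (q : ℕ) (x : Hyper.cechH X K T.X₂ q)
    (hx : hη K T.g q x = 0) : ∃ y, hη K T.f q y = x :=
  (ShortComplex.ab_exact_iff _).1 ((cF_shortExact K hT).homology_exact₂ q) x hx

omit [HasPullbacks C] in
theorem exact₁ (K : SimplicialObject (FormalCoproduct.{u} (Over X))) (q : ℕ) (x : Hyper.cechH X K T.X₁ (q + 1))
    (hx : hη K T.f (q + 1) x = 0) : ∃ y, hδ hT K q y = x :=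
  (ShortComplex.ab_exact_iff _).1 ((cF_shortExact K hT).homology_exact₁ q (q + 1) rfl) x hx

omit [HasPullbacks C] in
theorem exact₃ (K : SimplicialObject (FormalCoproduct.{u} (Over X))) (q : ℕ) (x : Hyper.cechH X K T.X₃ q)
    (hx : hδ hT K q x = 0) : ∃ y, hη K T.g q y = x :=
  (ShortComplex.ab_exact_iff _).1 ((cF_shortExact K hT).homology_exact₃ q (q + 1) rfl) x hx

omit [HasPullbacks C] in
theorem delta_g (K : SimplicialObject (FormalCoproduct.{u} (Over X))) (q : ℕ) (y : Hyper.cechH X K T.X₂ q) :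
    hδ hT K q (hη K T.g q y) = 0 :=
  ConcreteCategory.congr_hom ((cF_shortExact K hT).comp_δ q (q + 1) rfl) y

omit [HasPullbacks C] in
theorem mono_zero (K : SimplicialObject (FormalCoproduct.{u} (Over X))) :
    Function.Injective (hη K T.f 0) := by
  let φ : (cF K).obj T.X₁ ⟶ (cF K).obj T.X₂ := (cF K).map T.f
  haveI : Mono φ := (cF_shortExact K hT).mono_f
  haveI : Mono (φ.f 0) := inferInstance
  haveI : Mono (HomologicalComplex.cyclesMap φ 0) :=
    mono_of_mono_fac (HomologicalComplex.cyclesMap_i φ 0)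
  haveI := ((cF K).obj T.X₁).isIso_homologyπ₀
  haveI := ((cF K).obj T.X₂).isIso_homologyπ₀
  haveI : Mono (HomologicalComplex.homologyMap φ 0) := by
    rw [← IsIso.inv_hom_id_assoc (((cF K).obj T.X₁).homologyπ 0) (HomologicalComplex.homologyMap φ 0),
      HomologicalComplex.homologyπ_naturality]
    infer_instance
  exact (AddCommGrpCat.mono_iff_injective _).1 inferInstance

omit [HasPullbacks C] in
theorem hδ_natural {K L : SimplicialObject (FormalCoproduct.{u} (Over X))} (f : L ⟶ K) (q : ℕ)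
    (x : Hyper.cechH X K T.X₃ q) :
    Hyper.cechHMap X f T.X₁ (q + 1) (hδ hT K q x) = hδ hT L q (Hyper.cechHMap X f T.X₃ q x) :=
  ConcreteCategory.congr_hom (HomologicalComplex.HomologySequence.δ_naturality
    (S₁ := T.map (cF K)) (S₂ := T.map (cF L))
    { τ₁ := Hyper.cechMap X f T.X₁
      τ₂ := Hyper.cechMap X f T.X₂
      τ₃ := Hyper.cechMap X f T.X₃
      comm₁₂ := (cechMap_natural f T.f).symm
      comm₂₃ := (cechMap_natural f T.g).symm } (cF_shortExact K hT) (cF_shortExact L hT) q (q + 1) rfl) x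

theorem dies_two {q : ℕ} (h1 : Dies X J T.X₁ q) (h3 : Dies X J T.X₃ q) : Dies X J T.X₂ q := by
  intro K hK ξ
  obtain ⟨L, f, hL, hf⟩ := h3 K hK (hη K T.g q ξ)
  rw [hη_natural] at hf
  obtain ⟨y, hy⟩ := exact₂ hT L q _ hf
  obtain ⟨M, g, hM, hg⟩ := h1 L hL y
  exact ⟨M, g ≫ f, hM, by rw [cechHMap_comp, ← hy, hη_natural, hg, map_zero]⟩

theorem dies_one_zero (h2 : Dies X J T.X₂ 0) : Dies X J T.X₁ 0 := by
  intro K hK ξ
  obtain ⟨L, f, hL, hf⟩ := h2 K hK (hη K T.f 0 ξ)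
  rw [hη_natural] at hf
  exact ⟨L, f, hL, mono_zero hT L (hf.trans (map_zero _).symm)⟩

theorem dies_one {q : ℕ} (h2 : Dies X J T.X₂ (q + 1)) (h3 : Dies X J T.X₃ q) : Dies X J T.X₁ (q + 1) := by
  intro K hK ξ
  obtain ⟨L, f, hL, hf⟩ := h2 K hK (hη K T.f (q + 1) ξ)
  rw [hη_natural] at hf
  obtain ⟨y, hy⟩ := exact₁ hT L q _ hf
  obtain ⟨M, g, hM, hg⟩ := h3 L hL y
  exact ⟨M, g ≫ f, hM, by rw [cechHMap_comp, ← hy, hδ_natural hT, hg, map_zero]⟩

theorem dies_three {q : ℕ} (h2 : Dies X J T.X₂ q) (h1 : Dies X J T.X₁ (q + 1)) : Dies X J T.X₃ q := by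
  intro K hK ξ
  obtain ⟨L, f, hL, hf⟩ := h1 K hK (hδ hT K q ξ)
  rw [hδ_natural hT] at hf
  obtain ⟨y, hy⟩ := exact₃ hT L q _ hf
  obtain ⟨M, g, hM, hg⟩ := h2 L hL y
  exact ⟨M, g ≫ f, hM, by rw [cechHMap_comp, ← hy, hη_natural, hg, map_zero]⟩

theorem dies_iff_of_ker (h : IsZero ((presheafToSheaf J AddCommGrpCat.{u}).obj T.X₁)) (q : ℕ) :
    Dies X J T.X₂ q ↔ Dies X J T.X₃ q :=
  ⟨fun h2 => dies_three hT h2 (dies_of_sheafify_zero h _), fun h3 => dies_two hT (dies_of_sheafify_zero h _) h3⟩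

theorem dies_iff_of_coker (h : IsZero ((presheafToSheaf J AddCommGrpCat.{u}).obj T.X₃)) (q : ℕ) :
    Dies X J T.X₁ q ↔ Dies X J T.X₂ q := by
  refine ⟨fun h1 => dies_two hT h1 (dies_of_sheafify_zero h _), fun h2 => ?_⟩
  cases q with
  | zero => exact dies_one_zero hT h2
  | succ q => exact dies_one hT h2 (dies_of_sheafify_zero h _)

end Sequence

section LocIso

/-- `0 → ker η → P → coim η → 0`. -/
abbrev coimSeq {P Q : Cᵒᵖ ⥤ AddCommGrpCat.{u}} (η : P ⟶ Q) : ShortComplex (Cᵒᵖ ⥤ AddCommGrpCat.{u}) :=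
  ShortComplex.mk (kernel.ι η) (Abelian.coimage.π η) (cokernel.condition _)

/-- `0 → coim η → Q → coker → 0`. -/
abbrev cokSeq {P Q : Cᵒᵖ ⥤ AddCommGrpCat.{u}} (η : P ⟶ Q) : ShortComplex (Cᵒᵖ ⥤ AddCommGrpCat.{u}) :=
  ShortComplex.mk (Abelian.factorThruCoimage η) (cokernel.π _) (cokernel.condition _)

omit [HasPullbacks C] in
theorem coimSeq_shortExact {P Q : Cᵒᵖ ⥤ AddCommGrpCat.{u}} (η : P ⟶ Q) : (coimSeq η).ShortExact where
  exact := ShortComplex.exact_of_g_is_cokernel _ (cokernelIsCokernel _)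

omit [HasPullbacks C] in
theorem cokSeq_shortExact {P Q : Cᵒᵖ ⥤ AddCommGrpCat.{u}} (η : P ⟶ Q) : (cokSeq η).ShortExact where
  exact := ShortComplex.exact_of_g_is_cokernel _ (cokernelIsCokernel _)

omit [HasPullbacks C] in
theorem isZero_coker_coim {P Q : Cᵒᵖ ⥤ AddCommGrpCat.{u}} (η : P ⟶ Q)
    [Epi ((presheafToSheaf J AddCommGrpCat.{u}).map η)] :
    IsZero ((presheafToSheaf J AddCommGrpCat.{u}).obj (cokSeq η).X₃) := by
  have e : cokernel η ≅ (cokSeq η).X₃ :=
    cokernelIsoOfEq (Abelian.coimage.fac η).symm ≪≫ cokernelEpiComp _ _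
  refine IsZero.of_iso ?_ ((presheafToSheaf J AddCommGrpCat.{u}).mapIso e).symm
  exact IsZero.of_iso (isZero_cokernel_of_epi _) (PreservesCokernel.iso (presheafToSheaf J AddCommGrpCat.{u}) η)

/-- `Dies` only depends on the presheaf up to local isomorphism. -/
theorem dies_iff_of_isIso {P Q : Cᵒᵖ ⥤ AddCommGrpCat.{u}} (η : P ⟶ Q)
    [IsIso ((presheafToSheaf J AddCommGrpCat.{u}).map η)] (q : ℕ) : Dies X J P q ↔ Dies X J Q q :=
  (dies_iff_of_ker (coimSeq_shortExact η)
    (IsZero.of_iso (isZero_kernel_of_mono _) (PreservesKernel.iso (presheafToSheaf J AddCommGrpCat.{u}) η)) q).trans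
    (dies_iff_of_coker (cokSeq_shortExact η) (isZero_coker_coim η) q)

theorem dies_iff_sheafify (G : Cᵒᵖ ⥤ AddCommGrpCat.{u}) (q : ℕ) :
    Dies X J G q ↔ Dies X J ((presheafToSheaf J AddCommGrpCat.{u}).obj G).obj q :=
  haveI : IsIso ((presheafToSheaf J AddCommGrpCat.{u}).map (toSheafify J G)) :=
    (J.W_iff (A := AddCommGrpCat.{u}) _).1 (J.W_toSheafify G)
  dies_iff_of_isIso (toSheafify J G) q

end LocIso

end Groth.Agent.HypSR
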