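import Mathlib

/-! Finite nonempty limits of formal coproducts over a category without terminal object. -/

set_option autoImplicit false

universe u

open CategoryTheory CategoryTheory.Limits Opposite

noncomputable section

namespace Groth.Agent.HypSR.FCLimits

variable {C : Type u} [Category.{u} C]

section Products

variable [HasBinaryProducts C]

theorem hasProduct_fin : ∀ (n : ℕ) (f : Fin (n + 1) → C), HasProduct f
  | 0 => fun f =>
    haveI : Unique (Fin (0 + 1)) := inferInstanceAs (Unique (Fin 1))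
    HasLimit.mk (limitConeOfUnique f)
  | n + 1 => fun f =>
    haveI := hasProduct_fin n (fun i => f i.succ)
    HasLimit.mk ⟨_, extendFanIsLimit f (limit.isLimit (Discrete.functor fun i : Fin (n + 1) => f i.succ))
      (prodIsProd _ _)⟩

theorem hasProducts {ι : Type} [Finite ι] [Nonempty ι] : HasLimitsOfShape (Discrete ι) C := by
  obtain ⟨n, ⟨e⟩⟩ := Finite.exists_equiv_fin ι
  cases n with
  | zero => exact absurd (e (Classical.arbitrary ι)).2 (Nat.not_lt_zero _)
  | succ n =>
    haveI : HasLimitsOfShape (Discrete (Fin (n + 1))) C := ⟨fun F =>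
      haveI : HasLimit (Discrete.functor (F.obj ∘ Discrete.mk)) := hasProduct_fin n (fun i => F.obj ⟨i⟩)
      hasLimit_of_iso Discrete.natIsoFunctor.symm⟩
    exact hasLimitsOfShape_of_equivalence (Discrete.equivalence e.symm)

theorem fc_hasProducts {ι : Type} [Finite ι] [Nonempty ι] :
    HasLimitsOfShape (Discrete ι) (FormalCoproduct.{u} C) := by
  haveI := hasProducts (C := C) (ι := ι)
  refine ⟨fun F => ?_⟩
  let P : FormalCoproduct.{u} C :=
    ⟨∀ i : ι, (F.obj ⟨i⟩).I, fun s => ∏ᶜ fun i => (F.obj ⟨i⟩).obj (s i)⟩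
  let c : Fan fun i => F.obj ⟨i⟩ := Fan.mk P fun i => ⟨fun s => s i, fun s => Pi.π _ i⟩
  have hc : IsLimit c := mkFanLimit c
    (fun s => ⟨fun x i => (s.proj i).f x, fun x => Pi.lift fun i => (s.proj i).φ x⟩)
    (fun s i => FormalCoproduct.hom_ext rfl fun x => by simp [c, P])
    (fun s m hm => by
      have hf : ∀ x, m.f x = fun i => (s.proj i).f x := fun x => funext fun i =>
        congrFun (congrArg FormalCoproduct.Hom.f (hm i)) x
      refine FormalCoproduct.hom_ext (funext hf) fun x => Pi.hom_ext _ _ fun i => ?_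
      obtain ⟨mf, mφ⟩ := m
      obtain rfl : mf = fun x i => (s.proj i).f x := funext hf
      have := (FormalCoproduct.hom_ext_iff' _ _).1 (hm i) x
      obtain ⟨h, h'⟩ := this
      simp only [eqToHom_refl, Category.comp_id] at h' ⊢
      rw [Pi.lift_π]
      simpa [c, P] using h')
  haveI : HasLimit (Discrete.functor (F.obj ∘ Discrete.mk)) := HasLimit.mk ⟨c, hc⟩
  exact hasLimit_of_iso Discrete.natIsoFunctor.symm

end Products

instance fc_hasEqualizers [HasEqualizers C] : HasEqualizers (FormalCoproduct.{u} C) := by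
  haveI : ∀ {A B : FormalCoproduct.{u} C} {f g : A ⟶ B}, HasLimit (parallelPair f g) := fun {A B f g} => by
    let E : FormalCoproduct.{u} C :=
      ⟨{i : A.I // f.f i = g.f i}, fun i => equalizer (f.φ i.1 ≫ eqToHom (congrArg B.obj i.2)) (g.φ i.1)⟩
    let ι : E ⟶ A := ⟨Subtype.val, fun i => equalizer.ι _ _⟩
    have hw : ι ≫ f = ι ≫ g := (FormalCoproduct.hom_ext_iff' _ _).2 fun i => ⟨i.2, by
      simp [ι, equalizer.condition]⟩
    refine HasLimit.mk ⟨Fork.ofι ι hw, Fork.IsLimit.mk' _ fun s => ?_⟩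
    have hs := (FormalCoproduct.hom_ext_iff' _ _).1 s.condition
    refine ⟨⟨fun x => ⟨s.ι.f x, (hs x).1⟩, fun x => equalizer.lift (s.ι.φ x) ?_⟩, ?_, fun {m} hm => ?_⟩
    · obtain ⟨h, h'⟩ := hs x
      simpa using h'
    · exact FormalCoproduct.hom_ext rfl fun x => by simp [ι, E]
    · obtain ⟨mf, mφ⟩ := m
      have hm' := (FormalCoproduct.hom_ext_iff' _ _).1 hm
      obtain rfl : mf = fun x => ⟨s.ι.f x, (hs x).1⟩ := funext fun x => Subtype.ext (hm' x).1
      refine FormalCoproduct.hom_ext rfl fun x => equalizer.hom_ext ?_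
      obtain ⟨h, h'⟩ := hm' x
      simp only [eqToHom_refl, Category.comp_id] at h' ⊢
      rw [equalizer.lift_ι]
      simpa [ι, E] using h'
  exact hasEqualizers_of_hasLimit_parallelPair _

theorem hasLimit [HasBinaryProducts C] [HasEqualizers C] {K : Type} [SmallCategory K] [Finite K]
    [∀ a b : K, Finite (a ⟶ b)] [Nonempty K] (F : K ⥤ FormalCoproduct.{u} C) : HasLimit F := by
  haveI : Nonempty (Σ p : K × K, p.1 ⟶ p.2) :=
    ⟨⟨(Classical.arbitrary K, Classical.arbitrary K), 𝟙 _⟩⟩
  haveI := fc_hasProducts (C := C) (ι := K)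
  haveI := fc_hasProducts (C := C) (ι := Σ p : K × K, p.1 ⟶ p.2)
  exact hasLimit_of_equalizer_and_product F

end Groth.Agent.HypSR.FCLimits
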