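import Groth.Agent.HypSR.Pullback
import Mathlib

/-! Refinement of a hypercovering through a covering in one degree. -/

set_option autoImplicit false
set_option maxHeartbeats 1000000

universe u

open CategoryTheory CategoryTheory.Limits Opposite

noncomputable section

namespace Groth.Agent.HypSR

variable {C : Type u} [SmallCategory C] [HasPullbacks C] {J : GrothendieckTopology C} {X : C}

instance hasFiniteLimits_fc : HasFiniteLimits (FormalCoproduct.{u} (Over X)) :=
  hasFiniteLimits_of_hasTerminal_and_pullbacks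

instance finite_structuredArrow (m : ℕ) (P : SimplexCategoryᵒᵖ) :
    Finite (StructuredArrow P (SimplexCategory.Truncated.inclusion m).op) := by
  refine Finite.of_injective (β := Σ k : Fin (m + 1), ((SimplexCategory.mk k.1) ⟶ P.unop))
    (fun a => ⟨⟨a.right.unop.1.len, by have := a.right.unop.2; omega⟩, a.hom.unop⟩) ?_
  rintro ⟨⟨⟨⟩⟩, ⟨⟨x, hx⟩⟩, f⟩ ⟨⟨⟨⟩⟩, ⟨⟨y, hy⟩⟩, g⟩ h
  simp only [Sigma.mk.injEq, Fin.mk.injEq] at h
  obtain ⟨h1, h2⟩ := h
  obtain rfl : x = y := SimplexCategory.ext h1
  obtain rfl : f = g := Quiver.Hom.unop_inj (eq_of_heq h2)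
  rfl

instance finite_structuredArrow_hom (m : ℕ) (P : SimplexCategoryᵒᵖ)
    (a b : StructuredArrow P (SimplexCategory.Truncated.inclusion m).op) : Finite (a ⟶ b) :=
  Finite.of_injective (fun f => f.right.unop.hom) fun f g h =>
    StructuredArrow.ext _ _ (Quiver.Hom.unop_inj (InducedCategory.hom_ext h))

instance hasPointwise (m : ℕ)
    (F : (SimplexCategory.Truncated m)ᵒᵖ ⥤ FormalCoproduct.{u} (Over X)) :
    (SimplexCategory.Truncated.inclusion m).op.HasPointwiseRightKanExtension F := fun P => by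
  letI : Fintype (StructuredArrow P (SimplexCategory.Truncated.inclusion m).op) := Fintype.ofFinite _
  letI : FinCategory (StructuredArrow P (SimplexCategory.Truncated.inclusion m).op) :=
    { fintypeObj := inferInstance, fintypeHom := fun a b => Fintype.ofFinite _ }
  show HasLimit _
  infer_instance

variable [∀ (n : ℕ) (F : (SimplexCategory.Truncated n)ᵒᵖ ⥤ Limits.FormalCoproduct.{u} (Over X)),
  (SimplexCategory.Truncated.inclusion n).op.HasRightKanExtension F]

/-- An object of the truncated simplex category. -/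
abbrev tr (m : ℕ) (j : SimplexCategory) (hj : j.len ≤ m) : (SimplexCategory.Truncated m)ᵒᵖ := op ⟨j, hj⟩

/-- Projections of `cosk_m sk_m M`. -/
def proj {m : ℕ} (M : SimplicialObject (FormalCoproduct.{u} (Over X))) {P j : SimplexCategory}
    (hj : j.len ≤ m) (a : j ⟶ P) : ((ck m).obj M).obj (op P) ⟶ M.obj (op j) :=
  ((ck m).obj M).map a.op ≫
    ((SimplicialObject.coskAdj m).counit.app ((SimplicialObject.truncation m).obj M)).app (tr m j hj)

@[reassoc]
theorem unit_proj {m : ℕ} (M : SimplicialObject (FormalCoproduct.{u} (Over X))) {P j : SimplexCategory}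
    (hj : j.len ≤ m) (a : j ⟶ P) :
    ((SimplicialObject.coskAdj m).unit.app M).app (op P) ≫ proj M hj a = M.map a.op := by
  have h := congrArg (fun t => t.app (tr m j hj)) ((SimplicialObject.coskAdj m).left_triangle_components M)
  rw [proj, ← Category.assoc]
  erw [← ((SimplicialObject.coskAdj m).unit.app M).naturality a.op, Category.assoc]
  conv_rhs => rw [← Category.comp_id (M.map a.op)]
  congr 1

@[reassoc]
theorem map_proj {m : ℕ} {M N : SimplicialObject (FormalCoproduct.{u} (Over X))} (f : M ⟶ N)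
    {P j : SimplexCategory} (hj : j.len ≤ m) (a : j ⟶ P) :
    ((ck m).map f).app (op P) ≫ proj N hj a = proj M hj a ≫ f.app (op j) := by
  have h := congrArg (fun t => t.app (tr m j hj))
    ((SimplicialObject.coskAdj m).counit.naturality ((SimplicialObject.truncation m).map f))
  rw [proj, proj, ← Category.assoc, ← ((ck m).map f).naturality a.op, Category.assoc, Category.assoc]
  congr 1

@[reassoc]
theorem proj_map {m : ℕ} (M : SimplicialObject (FormalCoproduct.{u} (Over X))) {P i j : SimplexCategory}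
    (hi : i.len ≤ m) (hj : j.len ≤ m) (c : i ⟶ j) (a : j ⟶ P) :
    proj M hj a ≫ M.map c.op = proj M hi (c ≫ a) := by
  have h := ((SimplicialObject.coskAdj m).counit.app ((SimplicialObject.truncation m).obj M)).naturality
    (X := tr m j hj) (Y := tr m i hi) (Quiver.Hom.op (InducedCategory.homMk c))
  rw [proj, proj, op_comp, Functor.map_comp, Category.assoc, Category.assoc]
  congr 1
  exact h.symm

theorem ck_hom_ext {m : ℕ} (M : SimplicialObject (FormalCoproduct.{u} (Over X))) {P : SimplexCategory}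
    {T : FormalCoproduct.{u} (Over X)} {f g : T ⟶ ((ck m).obj M).obj (op P)}
    (h : ∀ (j : SimplexCategory) (hj : j.len ≤ m) (a : j ⟶ P), f ≫ proj M hj a = g ≫ proj M hj a) :
    f = g :=
  (Functor.isPointwiseRightKanExtensionOfIsRightKanExtension ((ck m).obj M)
    ((SimplicialObject.coskAdj m).counit.app ((SimplicialObject.truncation m).obj M)) (op P)).hom_ext
    fun s => h s.right.unop.1 s.right.unop.2 s.hom.unop

/-- The simplicial object `[q] ↦ ∏_{[n] → [q]} Z`. -/
def evR (n : SimplexCategory) (Z : FormalCoproduct.{u} (Over X)) :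
    SimplicialObject (FormalCoproduct.{u} (Over X)) where
  obj q := ∏ᶜ fun _ : n ⟶ q.unop => Z
  map f := Pi.lift fun φ => Pi.π _ (φ ≫ f.unop)
  map_id q := Pi.hom_ext _ _ fun φ => by simp
  map_comp f g := Pi.hom_ext _ _ fun φ => by simp

@[reassoc]
theorem evR_map_π {n p q : SimplexCategory} (Z : FormalCoproduct.{u} (Over X)) (f : q ⟶ p) (φ : n ⟶ q) :
    (evR n Z).map f.op ≫ Pi.π (fun _ : n ⟶ q => Z) φ = Pi.π (fun _ : n ⟶ p => Z) (φ ≫ f) :=
  Pi.lift_π _ _

theorem proj_π {n i j P : SimplexCategory} {m : ℕ} (Z : FormalCoproduct.{u} (Over X)) (hi : i.len ≤ m)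
    (hj : j.len ≤ m) (c : j ⟶ i) (a : i ⟶ P) (b : n ⟶ j) :
    proj (evR n Z) hj (c ≫ a) ≫ Pi.π (fun _ : n ⟶ j => Z) b =
      proj (evR n Z) hi a ≫ Pi.π (fun _ : n ⟶ i => Z) (b ≫ c) := by
  rw [← proj_map (evR n Z) hj hi c a]
  erw [Category.assoc, evR_map_π]

/-- Functoriality in `Z`. -/
def evRMap (n : SimplexCategory) {Z Z' : FormalCoproduct.{u} (Over X)} (w : Z ⟶ Z') :
    evR n Z ⟶ evR n Z' where
  app q := Pi.lift fun φ => Pi.π (fun _ : n ⟶ q.unop => Z) φ ≫ w
  naturality q q' f := Pi.hom_ext _ _ fun φ => by simp [evR]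

@[reassoc]
theorem evRMap_π (n q : SimplexCategory) {Z Z' : FormalCoproduct.{u} (Over X)} (w : Z ⟶ Z') (φ : n ⟶ q) :
    (evRMap n w).app (op q) ≫ Pi.π (fun _ : n ⟶ q => Z') φ = Pi.π (fun _ : n ⟶ q => Z) φ ≫ w :=
  Pi.lift_π _ _

/-- `M → R(M_n)`. -/
def evRUnit (n : SimplexCategory) (M : SimplicialObject (FormalCoproduct.{u} (Over X))) :
    M ⟶ evR n (M.obj (op n)) where
  app q := Pi.lift fun φ => M.map φ.op
  naturality q q' f := Pi.hom_ext _ _ fun φ => by simp [evR, ← Functor.map_comp]

/-- Finitely many components can be lifted at once along a covering. -/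
theorem covering_locally {Z Z' : FormalCoproduct.{u} (Over X)} (u : Z ⟶ Z')
    (hu : Hyper.IsSRCovering (J.over X) u) {ι : Type} [Finite ι] {W : Over X}
    (x : ι → ((FormalCoproduct.incl (Over X)).obj W ⟶ Z')) :
    ∃ S : Sieve W, S ∈ (J.over X) W ∧ ∀ ⦃V : Over X⦄ (k : V ⟶ W), S k →
      ∀ i, ∃ z : (FormalCoproduct.incl (Over X)).obj V ⟶ Z, z ≫ u = (FormalCoproduct.incl _).map k ≫ x i := by
  classical
  letI := Fintype.ofFinite ι
  suffices key : ∀ s : Finset ι, ∃ S : Sieve W, S ∈ (J.over X) W ∧ ∀ ⦃V : Over X⦄ (k : V ⟶ W), S k →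
      ∀ i ∈ s, ∃ z : (FormalCoproduct.incl (Over X)).obj V ⟶ Z,
        z ≫ u = (FormalCoproduct.incl _).map k ≫ x i by
    obtain ⟨S, hS, h⟩ := key Finset.univ
    exact ⟨S, hS, fun V k hk i => h k hk i (Finset.mem_univ i)⟩
  intro s
  induction s using Finset.induction_on with
  | empty => exact ⟨⊤, GrothendieckTopology.top_mem _ _, fun V k _ i hi => absurd hi (Finset.notMem_empty i)⟩
  | insert a s _ ih =>
    obtain ⟨S, hS, h⟩ := ih
    refine ⟨sv u (x a) ⊓ S, GrothendieckTopology.intersection_covering _ ((covering_iff _ u).1 hu W (x a)) hS,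
      fun V k hk i hi => ?_⟩
    rcases Finset.mem_insert.1 hi with rfl | hi
    · exact hk.1
    · exact h k hk.2 i hi

theorem evR_covering_app (n : SimplexCategory) {Z Z' : FormalCoproduct.{u} (Over X)} (u : Z ⟶ Z')
    (hu : Hyper.IsSRCovering (J.over X) u) (q : SimplexCategory) :
    Hyper.IsSRCovering (J.over X) ((evRMap n u).app (op q)) := by
  rw [covering_iff]
  intro W x
  obtain ⟨S, hS, hlift⟩ := covering_locally u hu (fun φ : n ⟶ q => x ≫ Pi.π _ φ)
  refine GrothendieckTopology.superset_covering _ ?_ hS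
  intro V k hk
  choose z hz using hlift k hk
  refine ⟨Pi.lift z, Pi.hom_ext _ _ fun φ => ?_⟩
  erw [Category.assoc, evRMap_π, Pi.lift_π_assoc, hz φ, Category.assoc]
  rfl

theorem evR_covering_rel (n : SimplexCategory) {Z Z' : FormalCoproduct.{u} (Over X)} (u : Z ⟶ Z')
    (hu : Hyper.IsSRCovering (J.over X) u) (m : ℕ) (P : SimplexCategory) (Q : FormalCoproduct.{u} (Over X))
    (q1 : Q ⟶ (evR n Z').obj (op P))
    (q2 : Q ⟶ ((ck m).obj (evR n Z)).obj (op P))
    (γ : (evR n Z).obj (op P) ⟶ Q)
    (hQ : IsPullback q1 q2 (((SimplicialObject.coskAdj m).unit.app (evR n Z')).app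
      (op P)) (((ck m).map (evRMap n u)).app (op P)))
    (h1 : γ ≫ q1 = (evRMap n u).app (op P))
    (h2 : γ ≫ q2 = ((SimplicialObject.coskAdj m).unit.app (evR n Z)).app (op P)) :
    Hyper.IsSRCovering (J.over X) γ := by
  classical
  rw [covering_iff]
  intro W y
  let y1 := y ≫ q1
  let y2 := y ≫ q2
  obtain ⟨S, hS, hlift⟩ := covering_locally u hu (fun φ : n ⟶ P => y1 ≫ Pi.π _ φ)
  refine GrothendieckTopology.superset_covering _ ?_ hS
  intro V k hk
  choose z hz using hlift k hk
  let ik := (FormalCoproduct.incl (Over X)).map k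
  -- the component at `φ`: forced when `φ` factors through the skeleton
  let c : ∀ φ : n ⟶ P, (FormalCoproduct.incl (Over X)).obj V ⟶ Z := fun φ =>
    if h : (image φ).len ≤ m then
      ik ≫ y2 ≫ proj (evR n Z) h (image.ι φ) ≫ Pi.π (fun _ : n ⟶ image φ => Z) (factorThruImage φ)
    else z φ
  have hc : ∀ φ, c φ ≫ u = ik ≫ y1 ≫ Pi.π _ φ := by
    intro φ
    dsimp only [c]
    split_ifs with h
    · simp only [Category.assoc]
      erw [← evRMap_π, ← map_proj_assoc]
      simp only [y1, y2, Category.assoc]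
      rw [← reassoc_of% hQ.w, unit_proj_assoc, evR_map_π, image.fac]
    · exact hz φ
  have hp : ∀ (j : SimplexCategory) (hj : j.len ≤ m) (a : j ⟶ P) (b : n ⟶ j),
      ik ≫ y2 ≫ proj (evR n Z) hj a ≫ Pi.π (fun _ : n ⟶ j => Z) b = c (b ≫ a) := by
    intro j hj a b
    let F : MonoFactorisation (b ≫ a) :=
      { I := image a, m := image.ι a, e := b ≫ factorThruImage a, fac := by rw [Category.assoc, image.fac] }
    have hlen : (image a).len ≤ m := (SimplexCategory.len_le_of_epi (factorThruImage a)).trans hj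
    have hlen' : (image (b ≫ a)).len ≤ m := by
      haveI : Mono (image.lift F) := inferInstance
      exact (SimplexCategory.len_le_of_mono (image.lift F)).trans hlen
    dsimp only [c]
    rw [dif_pos hlen']
    have e1 := proj_π Z hlen hj (factorThruImage a) (image.ι a) b
    rw [image.fac] at e1
    have e2 := proj_π Z hlen hlen' (image.lift F) F.m (factorThruImage (b ≫ a))
    rw [image.lift_fac, image.fac_lift F] at e2
    erw [e1, e2]
  refine ⟨Pi.lift c, hQ.hom_ext ?_ ?_⟩
  · rw [Category.assoc, h1]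
    refine Pi.hom_ext _ _ fun φ => ?_
    erw [Category.assoc, evRMap_π, Pi.lift_π_assoc, hc φ]
    simp [ik, y1]
    exact ((Category.assoc _ _ _).trans (congrArg (_ ≫ ·) (Category.assoc _ _ _))).symm
  · rw [Category.assoc, h2]
    refine ck_hom_ext _ fun j hj a => Pi.hom_ext _ _ fun b => ?_
    simp only [Category.assoc]
    erw [Category.assoc, Category.assoc, unit_proj_assoc, evR_map_π, Pi.lift_π, ← hp j hj a b]
    simp [ik, y2]
    exact ((Category.assoc _ _ _).trans (congrArg (_ ≫ ·) ((Category.assoc _ _ _).trans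
      (congrArg (_ ≫ ·) (Category.assoc _ _ _))))).symm

/-- A hypercovering can be refined so that degree `n` factors through a given covering. -/
theorem exists_refinement (K : SimplicialObject (FormalCoproduct.{u} (Over X)))
    (hK : Hyper.IsHypercovering J X K) (n : ℕ) (Z : FormalCoproduct.{u} (Over X))
    (u : Z ⟶ K.obj (op (SimplexCategory.mk n))) (hu : Hyper.IsSRCovering (J.over X) u) :
    ∃ (L : SimplicialObject (FormalCoproduct.{u} (Over X))) (f : L ⟶ K)
      (g : L.obj (op (SimplexCategory.mk n)) ⟶ Z),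
      Hyper.IsHypercovering J X L ∧ g ≫ u = f.app (op (SimplexCategory.mk n)) := by
  let a := evRUnit (SimplexCategory.mk n) K
  let b := evRMap (SimplexCategory.mk n) u
  refine ⟨pullback a b, pullback.fst a b, (pullback.snd a b).app (op (SimplexCategory.mk n)) ≫ Pi.π (fun _ : SimplexCategory.mk n ⟶ SimplexCategory.mk n => Z) (𝟙 _),
    isHypercovering_pullback a b _ _ (IsPullback.of_hasPullback a b) hK (evR_covering_app (SimplexCategory.mk n) u hu _)
      (fun m Q q1 q2 γ hQ h1 h2 => evR_covering_rel (SimplexCategory.mk n) u hu m _ Q q1 q2 γ hQ h1 h2), ?_⟩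
  have h := congrArg (fun t => t.app (op (SimplexCategory.mk n))) (pullback.condition (f := a) (g := b))
  simp only [NatTrans.comp_app] at h
  rw [Category.assoc]
  erw [← evRMap_π, ← reassoc_of% h]
  erw [Pi.lift_π]
  simp

end Groth.Agent.HypSR
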