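import Groth.Agent.HypSR.Univ
import Groth.Agent.HypSR.Refine
import Mathlib

/-! A hypercovering with finitely many components in each degree. -/

set_option autoImplicit false
set_option maxHeartbeats 1000000
set_option backward.isDefEq.respectTransparency false
set_option backward.isDefEq.respectTransparency.types false

universe u

open CategoryTheory CategoryTheory.Limits Opposite

noncomputable section

namespace Groth.Agent.HypSR.Fin

open Univ

variable {D : Type u} [Category.{u} D]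

/-- Proper faces among all faces. -/
abbrev inclP (m : SimplexCategory) : (Prp m)ᵒᵖ ⥤ (NE m)ᵒᵖ :=
  (Monotone.functor (f := (Subtype.val : Prp m → NE m)) fun _ _ h => h).op

theorem im_proper {i m : SimplexCategory} (a : i ⟶ m) (h : im a (Univ.top i) ≠ Univ.top m) (s : NE i) :
    im a s ≠ Univ.top m := fun e =>
  h (le_antisymm (Univ.le_top _) (e ▸ im_mono a (Univ.le_top s)))

/-- Image of faces under a map with proper image. -/
abbrev imP {i m : SimplexCategory} (a : i ⟶ m) (h : im a (Univ.top i) ≠ Univ.top m) : (NE i)ᵒᵖ ⥤ (Prp m)ᵒᵖ :=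
  (Monotone.functor (f := fun s : NE i => (⟨im a s, im_proper a h s⟩ : Prp m)) fun _ _ hs => im_mono a hs).op

theorem imP_incl {i m : SimplexCategory} (a : i ⟶ m) (h : im a (Univ.top i) ≠ Univ.top m) :
    imP a h ⋙ inclP m = img a := rfl

theorem en_top_ne {m : SimplexCategory} (T : Prp m) : im (en T.1) (Univ.top _) ≠ Univ.top m := by
  rw [im_en]
  exact T.2

/-- Restriction to a proper face. -/
abbrev res {m : SimplexCategory} (H : (Prp m)ᵒᵖ ⥤ D) (T : Prp m) :
    (NE (SimplexCategory.mk (T.1.1.card - 1)))ᵒᵖ ⥤ D :=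
  imP (en T.1) (en_top_ne T) ⋙ H

theorem res_inj {m : SimplexCategory} {H H' : (Prp m)ᵒᵖ ⥤ D} (h : ∀ T, res H T = res H' T) : H = H' := by
  have e : ∀ S : (Prp m)ᵒᵖ, (imP (en S.unop.1) (en_top_ne S.unop)).obj (op (Univ.top _)) = S := fun S =>
    congrArg op (Subtype.ext (im_en S.unop.1))
  refine CategoryTheory.Functor.ext (fun S => ?_) fun S T u => ?_
  · have := Functor.congr_obj (h S.unop) (op (Univ.top _))
    simp only [res, Functor.comp_obj] at this
    rwa [e S] at this
  · obtain ⟨c, hc⟩ := exists_factor (en T.unop.1) S.unop.1 (by rw [im_en]; exact u.unop.le)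
    have e' : (imP (en S.unop.1) (en_top_ne S.unop)).obj (op (im c (Univ.top _))) = T :=
      congrArg op (Subtype.ext (by show im (en S.unop.1) _ = _; rw [← im_comp, hc, im_en]))
    have := Functor.congr_hom (h S.unop) (homOfLE (Univ.le_top (im c (Univ.top _)))).op
    simp only [res, Functor.comp_map] at this
    rw [thin_map H (e S).symm e'.symm u ((imP (en S.unop.1) (en_top_ne S.unop)).map (homOfLE (Univ.le_top (im c (Univ.top _)))).op),
      thin_map H' (e S).symm e'.symm u ((imP (en S.unop.1) (en_top_ne S.unop)).map (homOfLE (Univ.le_top (im c (Univ.top _)))).op), this]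
    simp only [Category.assoc, eqToHom_trans, eqToHom_trans_assoc]

section Ext

variable [HasFiniteLimits D] {m : SimplexCategory} (H : (Prp m)ᵒᵖ ⥤ D)

instance : HasLimitsOfShape (Prp m)ᵒᵖ D := by
  classical
  letI : FinCategory (Prp m)ᵒᵖ :=
    { fintypeObj := Fintype.ofFinite _, fintypeHom := fun a b => Fintype.ofFinite _ }
  infer_instance

variable {V : D} (g : V ⟶ limit H)

/-- Adjoining a top value. -/
def ext : (NE m)ᵒᵖ ⥤ D := Univ.L ⋙ LL
where
  LL : WithInitial (Prp m)ᵒᵖ ⥤ D :=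
    WithInitial.lift H (fun T => g ≫ limit.π H T) (fun _ _ u => by rw [Category.assoc, limit.w])

open Classical in
theorem ext_obj {S : (NE m)ᵒᵖ} (h : S.unop ≠ Univ.top m) : (ext H g).obj S = H.obj (op ⟨S.unop, h⟩) := by
  simp [ext, Univ.L, dif_neg h]
  rfl

open Classical in
theorem ext_obj_top : (ext H g).obj (op (Univ.top m)) = V := by
  simp [ext, Univ.L]
  rfl

open Classical in
theorem ext_map_top (T : (NE m)ᵒᵖ) (hT : T.unop ≠ Univ.top m) (u : op (Univ.top m) ⟶ T) :
    eqToHom (ext_obj_top H g).symm ≫ (ext H g).map u =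
      g ≫ limit.π H (op ⟨T.unop, hT⟩) ≫ eqToHom (ext_obj H g hT).symm := by
  have e₁ : (Univ.L (m := m)).obj (op (Univ.top m)) = WithInitial.star := dif_pos rfl
  have e₂ : (Univ.L (m := m)).obj T = WithInitial.of (op ⟨T.unop, hT⟩) := dif_neg hT
  have : (Univ.L (m := m)).map u = eqToHom e₁ ≫ WithInitial.starInitial.to _ ≫ eqToHom e₂.symm :=
    Subsingleton.elim (h := Univ.L.withInitial_subsingleton _ _) _ _
  show _ ≫ (ext.LL H g).map ((Univ.L (m := m)).map u) = _
  rw [this, Functor.map_comp, Functor.map_comp, eqToHom_map, eqToHom_map]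
  erw [eqToHom_trans_assoc]
  erw [eqToHom_refl, Category.id_comp]
  rw [← Category.assoc]
  rfl

open Classical in
theorem incl_ext : inclP m ⋙ ext H g = H := by
  refine CategoryTheory.Functor.ext (fun S => ext_obj H g S.unop.2) fun S T u => ?_
  have e₁ : (Univ.L (m := m)).obj (op S.unop.1) = WithInitial.of S := dif_neg S.unop.2
  have e₂ : (Univ.L (m := m)).obj (op T.unop.1) = WithInitial.of T := dif_neg T.unop.2
  have : (Univ.L (m := m)).map ((inclP m).map u) = eqToHom e₁ ≫ WithInitial.incl.map u ≫ eqToHom e₂.symm :=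
    Subsingleton.elim (h := Univ.L.withInitial_subsingleton _ _) _ _
  show (ext.LL H g).map ((Univ.L (m := m)).map ((inclP m).map u)) = _
  rw [this, Functor.map_comp, Functor.map_comp, eqToHom_map, eqToHom_map]
  rfl

theorem imP_ext {i : SimplexCategory} (a : i ⟶ m) (h : im a (Univ.top i) ≠ Univ.top m) :
    img a ⋙ ext H g = imP a h ⋙ H := by
  rw [← imP_incl a h, Functor.assoc, incl_ext]

end Ext

variable [HasFiniteLimits D] (cι : D → Type u) (cV : ∀ W, cι W → D) (cf : ∀ W i, cV W i ⟶ W)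

/-- Nondegenerate diagrams. -/
def Gen : (j : ℕ) → Set ((NE (SimplexCategory.mk j))ᵒᵖ ⥤ D)
  | j => {F | ∃ H : (Prp (SimplexCategory.mk j))ᵒᵖ ⥤ D,
      (∀ T, ∃ (l : ℕ) (_ : l < j) (θ : SimplexCategory.mk (T.1.1.card - 1) ⟶ SimplexCategory.mk l),
        ∃ G ∈ Gen l, res H T = img θ ⋙ G) ∧
      ∃ i, F = ext H (cf (limit H) i)}

/-- Allowed diagrams. -/
def Good (m : SimplexCategory) (F : (NE m)ᵒᵖ ⥤ D) : Prop :=
  ∃ (j : ℕ) (_ : j ≤ m.len) (θ : m ⟶ SimplexCategory.mk j), ∃ G ∈ Gen cι cV cf j, F = img θ ⋙ G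

theorem le_of_im_top {a b : SimplexCategory} (θ : a ⟶ b) (h : im θ (Univ.top a) = Univ.top b) : b.len ≤ a.len := by
  have h1 : (Finset.univ : Finset (Fin (b.len + 1))).card ≤ (Finset.univ : Finset (Fin (a.len + 1))).card := by
    rw [show (Finset.univ : Finset (Fin (b.len + 1))) = (im θ (Univ.top a)).1 from (congrArg Subtype.val h).symm]
    exact Finset.card_image_le
  simpa using h1

theorem good_pre (j : ℕ) : ∀ (m : SimplexCategory) (θ : m ⟶ SimplexCategory.mk j),
    ∀ G ∈ Gen cι cV cf j, Good cι cV cf m (img θ ⋙ G) := by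
  induction j using Nat.strong_induction_on with
  | h j IH =>
    intro m θ G hG
    by_cases h : im θ (Univ.top m) = Univ.top _
    · exact ⟨j, le_of_im_top θ h, θ, G, hG, rfl⟩
    · let T : Prp (SimplexCategory.mk j) := ⟨_, h⟩
      obtain ⟨c, hc⟩ := exists_factor θ T.1 le_rfl
      have hG' := hG
      rw [Gen] at hG'
      obtain ⟨H, hH, i, rfl⟩ := hG'
      obtain ⟨l, hl, ψ, G', hG', e⟩ := hH T
      have : img θ ⋙ ext H (cf (limit H) i) = img (c ≫ ψ) ⋙ G' := by
        rw [← hc, pre_comp, imP_ext H _ (en T.1) (en_top_ne T), pre_comp]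
        exact congrArg (img c ⋙ ·) e
      rw [this]
      exact IH l hl m _ G' hG'

theorem good_map {m m' : SimplexCategory} (φ : m' ⟶ m) {F : (NE m)ᵒᵖ ⥤ D} (h : Good cι cV cf m F) :
    Good cι cV cf m' (img φ ⋙ F) := by
  obtain ⟨j, -, θ, G, hG, rfl⟩ := h
  rw [← pre_comp]
  exact good_pre cι cV cf j m' _ G hG

theorem finite_gen (hι : ∀ W, Finite (cι W)) (j : ℕ) : (Gen cι cV cf j).Finite := by
  induction j using Nat.strong_induction_on with
  | h j IH =>
    let A := Σ (l : {l : ℕ // l < j}), {G // G ∈ Gen cι cV cf l.1}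
    have : Finite A := by
      have : Finite {l : ℕ // l < j} := (Set.finite_lt_nat j).to_subtype
      have : ∀ l : {l : ℕ // l < j}, Finite {G // G ∈ Gen cι cV cf l.1} := fun l => (IH l.1 l.2).to_subtype
      exact inferInstanceAs (Finite (Sigma _))
    let S := {H : (Prp (SimplexCategory.mk j))ᵒᵖ ⥤ D //
      ∀ T, ∃ (l : ℕ) (_ : l < j) (θ : SimplexCategory.mk (T.1.1.card - 1) ⟶ SimplexCategory.mk l),
        ∃ G ∈ Gen cι cV cf l, res H T = img θ ⋙ G}
    have : Finite S := by
      have key : ∀ (H : S) (T : Prp (SimplexCategory.mk j)),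
          ∃ d : Σ (a : A), (SimplexCategory.mk (T.1.1.card - 1) ⟶ SimplexCategory.mk a.1.1),
            res H.1 T = img d.2 ⋙ d.1.2.1 := fun H T => by
        obtain ⟨l, hl, θ, G, hG, e⟩ := H.2 T
        exact ⟨⟨⟨⟨l, hl⟩, ⟨G, hG⟩⟩, θ⟩, e⟩
      choose d hd using key
      exact Finite.of_injective d fun H H' e =>
        Subtype.ext (res_inj fun T => by rw [hd H T, hd H' T, congrFun e T])
    refine (Set.finite_range (fun p : Σ H : S, cι (limit H.1) => ext p.1.1 (cf (limit p.1.1) p.2))).subset ?_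
    intro F hF
    rw [Gen] at hF
    obtain ⟨H, hH, i, rfl⟩ := hF
    exact ⟨⟨⟨H, hH⟩, i⟩, rfl⟩

theorem finite_good (hι : ∀ W, Finite (cι W)) (m : SimplexCategory) : {F | Good cι cV cf m F}.Finite := by
  have : ∀ j : Fin (m.len + 1), Finite {G // G ∈ Gen cι cV cf j.1} := fun j =>
    (finite_gen cι cV cf hι j.1).to_subtype
  refine (Set.finite_range (fun p : Σ j : Fin (m.len + 1),
    (m ⟶ SimplexCategory.mk j.1) × {G // G ∈ Gen cι cV cf j.1} => img p.2.1 ⋙ p.2.2.1)).subset ?_
  rintro F ⟨j, hj, θ, G, hG, rfl⟩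
  exact ⟨⟨⟨j, by omega⟩, θ, ⟨G, hG⟩⟩, rfl⟩

theorem gen_prop (P : D → Prop) (hP : ∀ W i, P (cV W i)) (j : ℕ) :
    ∀ F ∈ Gen cι cV cf j, ∀ s, P (F.obj s) := by
  induction j using Nat.strong_induction_on with
  | h j IH =>
    intro F hF
    rw [Gen] at hF
    obtain ⟨H, hH, i, rfl⟩ := hF
    intro s
    by_cases h : s.unop = Univ.top _
    · obtain ⟨s⟩ := s
      subst h
      rw [ext_obj_top]
      exact hP _ _
    · rw [ext_obj _ _ h]
      obtain ⟨l, hl, θ, G, hG, e⟩ := hH ⟨s.unop, h⟩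
      have := IH l hl G hG ((img θ).obj (op (Univ.top _)))
      have e' := Functor.congr_obj e (op (Univ.top _))
      simp only [Functor.comp_obj] at e'
      rw [← e'] at this
      rwa [show (imP (en s.unop) (en_top_ne ⟨s.unop, h⟩)).obj (op (Univ.top _)) = op ⟨s.unop, h⟩ from
        congrArg op (Subtype.ext (im_en s.unop))] at this

/-- No restriction. -/
abbrev T0 : D → Prop := fun _ => True

/-- The simplicial family of allowed diagrams. -/
def obj : SimplicialObject (FormalCoproduct.{u} D) where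
  obj m := ⟨{F : Idx T0 m.unop // Good cι cV cf m.unop F.1}, fun F => F.1.1.obj (op (Univ.top m.unop))⟩
  map {m m'} θ :=
    { f := fun F => ⟨((Univ.obj T0).map θ).f F.1, good_map cι cV cf θ.unop F.2⟩
      φ := fun F => ((Univ.obj T0).map θ).φ F.1 }
  map_id m := FormalCoproduct.hom_ext (funext fun F => Subtype.ext (Subtype.ext (pre_id F.1.1))) fun F => by
    refine (Univ.map_eqToHom F.1.1 _ (𝟙 _) (congrArg op (im_id _)) _).trans ?_
    simp
  map_comp {m m' m''} θ ψ := FormalCoproduct.hom_ext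
    (funext fun F => Subtype.ext (Subtype.ext (pre_comp ψ.unop θ.unop F.1.1))) fun F => by
    refine (Univ.map_eqToHom F.1.1 _ ((homOfLE (Univ.le_top (im θ.unop (Univ.top m'.unop)))).op ≫
      (img θ.unop).map (homOfLE (Univ.le_top (im ψ.unop (Univ.top m''.unop)))).op) (congrArg op (im_comp _ _ _)) _).trans ?_
    simp [Functor.map_comp]
    rfl

/-- Inclusion in the universal family. -/
def inc : obj cι cV cf ⟶ Univ.obj (T0 (D := D)) where
  app m := { f := fun F => F.1, φ := fun F => 𝟙 (F.1.1.obj (op (Univ.top m.unop))) }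
  naturality m m' θ := FormalCoproduct.hom_ext (funext fun F => rfl) fun F => by
    show (((Univ.obj T0).map θ).φ F.1 ≫ 𝟙 _) ≫ eqToHom _ = 𝟙 _ ≫ ((Univ.obj T0).map θ).φ F.1
    erw [Category.comp_id, Category.id_comp]
    exact Category.comp_id _

theorem inc_inj {W : D} {m : SimplexCategoryᵒᵖ} {y y' : (FormalCoproduct.incl D).obj W ⟶ (obj cι cV cf).obj m}
    (h : y ≫ (inc cι cV cf).app m = y' ≫ (inc cι cV cf).app m) : y = y' := by
  rw [FormalCoproduct.hom_ext_iff'] at h ⊢
  intro i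
  obtain ⟨h1, h2⟩ := h i
  refine ⟨Subtype.ext h1, ?_⟩
  have h2' : (y.φ i ≫ 𝟙 _) ≫ eqToHom _ = y'.φ i ≫ 𝟙 _ := h2
  erw [Category.comp_id, Category.comp_id] at h2'
  exact h2'

/-- Lifting a boundary after refining through a chosen cover. -/
theorem exists_lift {W : D} {m : SimplexCategory} {n : ℕ} (β : Bdry T0 m n W) (hm : m.len ≤ n + 1) (hm' : n < m.len)
    (hβ : ∀ (j : SimplexCategory) (hj : j.len ≤ n) (a : j ⟶ m), Good cι cV cf j (dg (β.pnt hj a))) :
    ∃ (L : D) (φ : W ⟶ L), ∀ (W' : D) (k : W' ⟶ W) (i : cι L) (h : W' ⟶ cV L i), h ≫ cf L i = k ≫ φ →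
      ∃ z : (FormalCoproduct.incl D).obj W' ⟶ (Univ.obj T0).obj (op m),
        (Good cι cV cf m (dg z)) ∧
        ∀ (j : SimplexCategory) (hj : j.len ≤ n) (a : j ⟶ m),
          z ≫ (Univ.obj T0).map a.op = (FormalCoproduct.incl D).map k ≫ β.pnt hj a := by
  let E := Univ.ext β hm
  let H := inclP m ⋙ E
  let c : Cone H :=
    { pt := W
      π :=
        { app := fun T => eqToHom (Univ.ext_obj_top β hm).symm ≫ E.map (homOfLE (Univ.le_top T.unop.1)).op
          naturality := fun S T u => by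
            show 𝟙 _ ≫ _ = (eqToHom _ ≫ E.map _) ≫ E.map ((inclP m).map u)
            rw [Category.id_comp, Category.assoc, ← Functor.map_comp]
            rfl } }
  refine ⟨limit H, limit.lift H c, fun W' k i h hk => ?_⟩
  let F := ext H (cf (limit H) i)
  have hF : F ∈ Gen cι cV cf m.len := by
    rw [Gen]
    refine ⟨H, fun T => ?_, i, rfl⟩
    obtain ⟨l, hl, θ, G, hG, e⟩ := hβ _ (en_len hm T.1 T.2) (en T.1)
    refine ⟨l, ?_, θ, G, hG, ?_⟩
    · have := en_len hm T.1 T.2
      omega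
    · rw [← e, ← Univ.ext_pre β hm hm' (en_len hm T.1 T.2) (en T.1)]
      rfl
  refine ⟨FormalCoproduct.Hom.fromIncl (Y := (Univ.obj T0).obj (op m)) ⟨F, fun _ => trivial⟩
    (h ≫ eqToHom (ext_obj_top H (cf (limit H) i)).symm), ⟨m.len, le_rfl, 𝟙 m, F, hF, (pre_id F).symm⟩, fun j hj a => ?_⟩
  have hT : im a (Univ.top j) ≠ Univ.top m := proper_of_len hj hm' a (Univ.top j)
  have hd : img a ⋙ F = img a ⋙ E := (imP_ext H (cf (limit H) i) a hT).trans (by rw [← imP_incl a hT, Functor.assoc])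
  rw [← Univ.lift_map β hm hm' (trivial : T0 W) hj a, ← Category.assoc]
  refine pt_ext hd ?_
  rw [ar_map, ar_map]
  show ((h ≫ eqToHom (ext_obj_top H (cf (limit H) i)).symm) ≫ F.map _) ≫ eqToHom _ =
    (k ≫ eqToHom (Univ.ext_obj_top β hm).symm) ≫ E.map _
  simp only [Category.assoc]
  erw [← Category.assoc (eqToHom _) (F.map _), ext_map_top H (cf (limit H) i) (op (im a (Univ.top j))) hT]
  simp only [Category.assoc, eqToHom_trans]
  rw [← Category.assoc h, hk, Category.assoc]
  erw [limit.lift_π_assoc]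
  simp only [c, Category.assoc]
  erw [Category.comp_id]

end Fin

open Univ

variable {C : Type u} [SmallCategory C] [HasPullbacks C] {J : GrothendieckTopology C} {X : C}
  [∀ (n : ℕ) (F : (SimplexCategory.Truncated n)ᵒᵖ ⥤ Limits.FormalCoproduct.{u} (Over X)),
    (SimplexCategory.Truncated.inclusion n).op.HasRightKanExtension F]

theorem exists_finite_hypercovering (B : Set C)
    (h2 : ∀ X : C, ∃ (ι : Type u) (_ : Finite ι) (U : ι → C) (f : ∀ i, U i ⟶ X),
      Sieve.ofArrows U f ∈ J X ∧ ∀ i, U i ∈ B) :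
    ∃ K : SimplicialObject (FormalCoproduct.{u} (Over X)), Hyper.IsHypercovering J X K ∧
      ∀ n : ℕ, _root_.Finite (K.obj (op (SimplexCategory.mk n))).I ∧
        ∀ i, ((K.obj (op (SimplexCategory.mk n))).obj i).left ∈ B := by
  choose ι hι U f hf hU using h2
  haveI : HasFiniteLimits (Over X) := hasFiniteLimits_of_hasTerminal_and_pullbacks
  let cι : Over X → Type u := fun W => ι W.left
  let cV : ∀ W : Over X, cι W → Over X := fun W i => Over.mk (f W.left i ≫ W.hom)
  let cf : ∀ (W : Over X) i, cV W i ⟶ W := fun W i => Over.homMk (f W.left i) rfl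
  have cover : ∀ (L : Over X), ∀ ⦃W : C⦄ (g : W ⟶ L.left), Sieve.ofArrows (U L.left) (f L.left) g →
      ∃ i, ∃ h : Over.mk (g ≫ L.hom) ⟶ cV L i, h ≫ cf L i = Over.homMk g rfl := by
    intro L W g hg
    obtain ⟨i, k, rfl⟩ := (Sieve.mem_ofArrows_iff _ _ _).1 hg
    exact ⟨i, Over.homMk k (Category.assoc _ _ _).symm, by ext; rfl⟩
  let K := Fin.obj cι cV cf
  refine ⟨K, ⟨?_, fun n => ?_⟩, fun n => ⟨?_, fun i => ?_⟩⟩
  · let H : (Prp (SimplexCategory.mk 0))ᵒᵖ ⥤ Over X := (Functor.const _).obj (Over.mk (𝟙 X))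
    let φ : Over.mk (𝟙 X) ⟶ limit H := limit.lift H ⟨Over.mk (𝟙 X), { app := fun _ => 𝟙 _ }⟩
    refine J.superset_covering ?_ (J.pullback_stable φ.left (hf (limit H).left))
    intro W g hg
    obtain ⟨i, h, hh⟩ := cover _ _ hg
    let F := Fin.ext H (cf (limit H) i)
    have hF : F ∈ Fin.Gen cι cV cf 0 := by
      rw [Fin.Gen]
      refine ⟨H, fun T => ?_, i, rfl⟩
      exfalso
      refine T.2 (Subtype.ext ((Finset.eq_univ_iff_forall).2 fun x => ?_))
      obtain ⟨y, hy⟩ := T.1.2
      rwa [Subsingleton.elim (α := _root_.Fin 1) x y]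
    let e := eqToHom (Fin.ext_obj_top H (cf (limit H) i)).symm
    refine (Sieve.mem_ofArrows_iff _ _ _).2
      ⟨⟨⟨F, fun _ => trivial⟩, 0, le_rfl, 𝟙 _, F, hF, (pre_id F).symm⟩, (h ≫ e).left, ?_⟩
    refine Eq.trans ?_ (Over.w (h ≫ e)).symm
    show g = (g ≫ φ.left) ≫ (limit H).hom
    rw [Category.assoc, Over.w φ]
    exact (Category.comp_id g).symm
  · rw [covering_iff]
    intro W y
    let β : Bdry (Fin.T0 (D := Over X)) (SimplexCategory.mk (n + 1)) n W :=
      { pnt := fun hj a => y ≫ proj K hj a ≫ (Fin.inc cι cV cf).app _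
        compat := fun hi hj c a => by
          rw [Category.assoc, Category.assoc, ← (Fin.inc cι cV cf).naturality, ← Category.assoc (proj K hj a)]
          rw [proj_map] }
    obtain ⟨L, φ, hφ⟩ := Fin.exists_lift cι cV cf β le_rfl (Nat.lt_succ_self n)
      (fun j hj a => ((y ≫ proj K hj a).f PUnit.unit).2)
    rw [GrothendieckTopology.mem_over_iff]
    refine J.superset_covering ?_ (J.pullback_stable φ.left (hf L.left))
    intro W' g hg
    rw [Sieve.overEquiv_iff]
    obtain ⟨i, h, hh⟩ := cover _ _ hg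
    have e : g ≫ W.hom = (g ≫ φ.left) ≫ L.hom := by rw [Category.assoc, Over.w φ]
    let h' : Over.mk (g ≫ W.hom) ⟶ cV L i := Over.homMk h.left ((Over.w h).trans e.symm)
    have hk : h' ≫ cf L i = (Over.homMk g rfl : Over.mk (g ≫ W.hom) ⟶ W) ≫ φ := by
      ext
      have h2 : h.left ≫ f L.left i = g ≫ φ.left := congrArg (fun t => t.left) hh
      exact h2
    obtain ⟨z, hz, hz'⟩ := hφ _ _ i h' hk
    let z₀ : (FormalCoproduct.incl (Over X)).obj (Over.mk (g ≫ W.hom)) ⟶ K.obj (op (SimplexCategory.mk (n + 1))) :=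
      FormalCoproduct.Hom.fromIncl (Y := K.obj (op (SimplexCategory.mk (n + 1)))) ⟨z.f PUnit.unit, hz⟩ (z.φ PUnit.unit)
    refine ⟨z₀, ck_hom_ext _ fun j hj a => Fin.inc_inj cι cV cf ?_⟩
    rw [Category.assoc, Category.assoc, unit_proj_assoc, Category.assoc, (Fin.inc cι cV cf).naturality, ← Category.assoc]
    have : z₀ ≫ (Fin.inc cι cV cf).app (op (SimplexCategory.mk (n + 1))) = z :=
      FormalCoproduct.hom_ext (funext fun x => by cases x; rfl) fun x => by
        cases x
        simp [z₀, Fin.inc]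
        exact Category.comp_id _
    rw [this, hz' j hj a]
    simp [β, Category.assoc]
  · haveI := (Fin.finite_good cι cV cf (fun W => hι W.left) (SimplexCategory.mk n)).to_subtype
    exact _root_.Finite.of_injective (β := {F | Fin.Good cι cV cf (SimplexCategory.mk n) F})
      (fun F => ⟨F.1.1, F.2⟩) fun a b e => Subtype.ext (Subtype.ext (congrArg (fun x => x.1) e :))
  · obtain ⟨j, -, θ, G, hG, e⟩ := i.2
    show (i.1.1.obj _).left ∈ B
    rw [e]
    exact Fin.gen_prop cι cV cf (fun W => W.left ∈ B) (fun W i => hU W.left i) j G hG _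

end Groth.Agent.HypSR
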