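import Groth.Agent.HypSR.Refine
import Groth.Prelude.Def_Hyper2
import Mathlib

/-! A Čech class with values in a presheaf with zero sheafification dies on a refinement. -/

set_option autoImplicit false
set_option maxHeartbeats 1000000

universe u

open CategoryTheory CategoryTheory.Limits Opposite

noncomputable section

namespace Groth.Agent.HypSR

variable {C : Type u} [SmallCategory C] [HasPullbacks C] {J : GrothendieckTopology C} {X : C}
  [∀ (n : ℕ) (F : (SimplexCategory.Truncated n)ᵒᵖ ⥤ Limits.FormalCoproduct.{u} (Over X)),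
    (SimplexCategory.Truncated.inclusion n).op.HasRightKanExtension F]

omit [HasPullbacks C] in
theorem locally_zero {N : Cᵒᵖ ⥤ AddCommGrpCat.{u}}
    (hN : IsZero ((presheafToSheaf J AddCommGrpCat.{u}).obj N)) {W : C} (s : N.obj (op W)) :
    Presheaf.equalizerSieve s 0 ∈ J W := by
  refine Presheaf.equalizerSieve_mem J (toSheafify J N) s 0 ?_
  have hz : IsZero (((sheafToPresheaf J AddCommGrpCat.{u}).obj
      ((presheafToSheaf J AddCommGrpCat.{u}).obj N)).obj (op W)) :=
    (Functor.map_isZero ((sheafToPresheaf J AddCommGrpCat.{u}) ⋙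
      (evaluation Cᵒᵖ AddCommGrpCat.{u}).obj (op W)) hN)
  exact (AddCommGrpCat.subsingleton_of_isZero hz).elim _ _

theorem exists_kill (K : SimplicialObject (FormalCoproduct.{u} (Over X))) (hK : Hyper.IsHypercovering J X K)
    {N : Cᵒᵖ ⥤ AddCommGrpCat.{u}} (hN : IsZero ((presheafToSheaf J AddCommGrpCat.{u}).obj N)) (p : ℕ)
    (ξ : Hyper.cechH X K N p) :
    ∃ (L : SimplicialObject (FormalCoproduct.{u} (Over X))) (f : L ⟶ K),
      Hyper.IsHypercovering J X L ∧ Hyper.cechHMap X f N p ξ = 0 := by
  obtain ⟨z, rfl⟩ := (AddCommGrpCat.epi_iff_surjective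
    ((Hyper.cechCx X K N).homologyπ p)).1 inferInstance ξ
  let Kp := K.obj (op (SimplexCategory.mk p))
  let F : Kp.I → AddCommGrpCat.{u} := fun i => N.obj (op (Kp.obj i).left)
  let c : ∀ i : Kp.I, F i := fun i => Pi.π F i ((Hyper.cechCx X K N).iCycles p z)
  -- arrows killing the components
  let Z : FormalCoproduct.{u} (Over X) :=
    ⟨Σ i : Kp.I, Σ V : Over X, {g : V ⟶ Kp.obj i // N.map g.left.op (c i) = 0}, fun a => a.2.1⟩
  let u : Z ⟶ Kp := { f := fun a => a.1, φ := fun a => a.2.2.1 }
  have hu : Hyper.IsSRCovering (J.over X) u := fun j => by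
    rw [GrothendieckTopology.mem_over_iff]
    refine J.superset_covering ?_ (locally_zero hN (c j))
    intro V k hk
    rw [Sieve.overEquiv_iff, Sieve.mem_ofArrows_iff]
    exact ⟨⟨⟨j, Over.mk (k ≫ (Kp.obj j).hom), Over.homMk k rfl,
      (show N.map k.op (c j) = N.map k.op 0 from hk).trans (map_zero _)⟩, rfl⟩, 𝟙 _, by simp [u]⟩
  obtain ⟨L, f, g, hL, hg⟩ := exists_refinement K hK p Z u hu
  refine ⟨L, f, hL, ?_⟩
  have hkill : ((FormalCoproduct.evalOp.{u} (Over X) AddCommGrpCat.{u}).obj ((Over.forget X).op ⋙ N)).map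
      u.op ((Hyper.cechCx X K N).iCycles p z) = 0 := by
    refine Concrete.limit_ext _ _ _ fun a => ?_
    obtain ⟨a⟩ := a
    refine Eq.trans ?_ (map_zero _).symm
    exact (ConcreteCategory.congr_hom (Pi.lift_π (fun i : Z.I => Pi.π F (u.f i) ≫ N.map (u.φ i).left.op) a)
      ((Hyper.cechCx X K N).iCycles p z)).trans a.2.2.2
  have hcyc : HomologicalComplex.cyclesMap (Hyper.cechMap X f N) p z = 0 := by
    apply (AddCommGrpCat.mono_iff_injective ((Hyper.cechCx X L N).iCycles p)).1 inferInstance
    refine (ConcreteCategory.congr_hom (HomologicalComplex.cyclesMap_i (Hyper.cechMap X f N) p) z).trans ?_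
    rw [map_zero]
    have hf : (Hyper.cechMap X f N).f p =
        ((FormalCoproduct.evalOp.{u} (Over X) AddCommGrpCat.{u}).obj ((Over.forget X).op ⋙ N)).map
          (f.app (op (SimplexCategory.mk p))).op := rfl
    rw [ConcreteCategory.comp_apply, hf, ← hg, op_comp, Functor.map_comp]
    erw [ConcreteCategory.comp_apply]
    exact (congrArg _ hkill).trans (map_zero _)
  show (HomologicalComplex.homologyMap (Hyper.cechMap X f N) p).hom
    ((Hyper.cechCx X K N).homologyπ p z) = 0
  refine (ConcreteCategory.congr_hom (HomologicalComplex.homologyπ_naturality (Hyper.cechMap X f N) p) z).trans ?_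
  rw [ConcreteCategory.comp_apply, hcyc, map_zero]

end Groth.Agent.HypSR
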