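import Groth.Agent.HypSR.Basic
import Mathlib

/-! Hypercoverings are stable under pullback along local fibrations. -/

set_option autoImplicit false
set_option maxHeartbeats 800000

universe u

open CategoryTheory CategoryTheory.Limits Opposite

noncomputable section

namespace Groth.Agent.HypSR

variable {C : Type u} [SmallCategory C] [HasPullbacks C] {J : GrothendieckTopology C} {X : C}
  [∀ (n : ℕ) (F : (SimplexCategory.Truncated n)ᵒᵖ ⥤ Limits.FormalCoproduct.{u} (Over X)),
    (SimplexCategory.Truncated.inclusion n).op.HasRightKanExtension F]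

/-- `cosk_n sk_n`. -/
abbrev ck (n : ℕ) : SimplicialObject (FormalCoproduct.{u} (Over X)) ⥤
    SimplicialObject (FormalCoproduct.{u} (Over X)) :=
  SimplicialObject.truncation n ⋙ SimplicialObject.Truncated.cosk n

theorem ck_isPullback (n : ℕ) {K L M P : SimplicialObject (FormalCoproduct.{u} (Over X))} {a : K ⟶ L}
    {b : M ⟶ L} {p1 : P ⟶ K} {p2 : P ⟶ M} (hP : IsPullback p1 p2 a b) (x : SimplexCategoryᵒᵖ) :
    IsPullback (((ck n).map p1).app x) (((ck n).map p2).app x) (((ck n).map a).app x)
      (((ck n).map b).app x) := by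
  haveI : (SimplicialObject.Truncated.cosk (C := FormalCoproduct.{u} (Over X)) n).IsRightAdjoint :=
    (SimplicialObject.coskAdj n).isRightAdjoint
  haveI : PreservesLimitsOfShape WalkingCospan
      ((evaluation SimplexCategoryᵒᵖ (FormalCoproduct.{u} (Over X))).obj x) := inferInstance
  haveI : PreservesLimitsOfShape WalkingCospan
      (SimplicialObject.truncation (C := FormalCoproduct.{u} (Over X)) n) := by
    dsimp [SimplicialObject.truncation]
    infer_instance
  exact ((hP.map (SimplicialObject.truncation n)).map (SimplicialObject.Truncated.cosk n)).map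
    ((evaluation SimplexCategoryᵒᵖ (FormalCoproduct.{u} (Over X))).obj x)

theorem app_isPullback {K L M P : SimplicialObject (FormalCoproduct.{u} (Over X))} {a : K ⟶ L}
    {b : M ⟶ L} {p1 : P ⟶ K} {p2 : P ⟶ M} (hP : IsPullback p1 p2 a b) (x : SimplexCategoryᵒᵖ) :
    IsPullback (p1.app x) (p2.app x) (a.app x) (b.app x) :=
  hP.map ((evaluation SimplexCategoryᵒᵖ (FormalCoproduct.{u} (Over X))).obj x)

theorem isHypercovering_pullback {K L M P : SimplicialObject (FormalCoproduct.{u} (Over X))}
    (a : K ⟶ L) (b : M ⟶ L) (p1 : P ⟶ K) (p2 : P ⟶ M) (hP : IsPullback p1 p2 a b)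
    (hK : Hyper.IsHypercovering J X K)
    (h0 : Hyper.IsSRCovering (J.over X) (b.app (op (SimplexCategory.mk 0))))
    (hγ : ∀ (n : ℕ) (Q : FormalCoproduct.{u} (Over X))
      (q1 : Q ⟶ L.obj (op (SimplexCategory.mk (n + 1))))
      (q2 : Q ⟶ ((ck n).obj M).obj (op (SimplexCategory.mk (n + 1))))
      (γ : M.obj (op (SimplexCategory.mk (n + 1))) ⟶ Q),
      IsPullback q1 q2 (((SimplicialObject.coskAdj n).unit.app L).app (op (SimplexCategory.mk (n + 1))))
        (((ck n).map b).app (op (SimplexCategory.mk (n + 1)))) →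
      γ ≫ q1 = b.app (op (SimplexCategory.mk (n + 1))) →
      γ ≫ q2 = ((SimplicialObject.coskAdj n).unit.app M).app (op (SimplexCategory.mk (n + 1))) →
      Hyper.IsSRCovering (J.over X) γ) :
    Hyper.IsHypercovering J X P := by
  refine ⟨covers_of_covering _ (covering_of_isPullback (app_isPullback hP _).flip h0) hK.1, fun n => ?_⟩
  set e := op (SimplexCategory.mk (n + 1))
  let ηK := ((SimplicialObject.coskAdj n).unit.app K).app e
  let ηL := ((SimplicialObject.coskAdj n).unit.app L).app e
  let ηM := ((SimplicialObject.coskAdj n).unit.app M).app e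
  let ηP := ((SimplicialObject.coskAdj n).unit.app P).app e
  have nat : ∀ {A B : SimplicialObject (FormalCoproduct.{u} (Over X))} (f : A ⟶ B),
      f.app e ≫ ((SimplicialObject.coskAdj n).unit.app B).app e =
        ((SimplicialObject.coskAdj n).unit.app A).app e ≫ ((ck n).map f).app e := fun f => by
    rw [← NatTrans.comp_app, ← NatTrans.comp_app]
    exact congrArg (fun t => t.app e) ((SimplicialObject.coskAdj n).unit.naturality f)
  let Gb := ((ck n).map b).app e
  let γ : M.obj e ⟶ pullback ηL Gb := pullback.lift (b.app e) ηM (nat b)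
  have hcov : Hyper.IsSRCovering (J.over X) γ :=
    hγ n _ _ _ γ (IsPullback.of_hasPullback ηL Gb) (pullback.lift_fst _ _ _) (pullback.lift_snd _ _ _)
  -- `R = K ×_L Q`
  let r1 : pullback (a.app e) (pullback.fst ηL Gb) ⟶ K.obj e := pullback.fst _ _
  let r2 : pullback (a.app e) (pullback.fst ηL Gb) ⟶ pullback ηL Gb := pullback.snd _ _
  let v : P.obj e ⟶ pullback (a.app e) (pullback.fst ηL Gb) :=
    pullback.lift (p1.app e) (p2.app e ≫ γ)
      (by rw [Category.assoc, pullback.lift_fst]; exact (app_isPullback hP e).w)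
  have hv : IsPullback (p2.app e) v γ r2 := by
    refine IsPullback.of_bot ?_ (pullback.lift_snd _ _ _).symm
      (IsPullback.of_hasPullback (a.app e) (pullback.fst ηL Gb)).flip
    rw [pullback.lift_fst, pullback.lift_fst]
    exact (app_isPullback hP e).flip
  have hR : IsPullback r1 (r2 ≫ pullback.snd ηL Gb) (a.app e ≫ ηL) Gb :=
    (IsPullback.of_hasPullback (a.app e) (pullback.fst ηL Gb)).paste_vert
      (IsPullback.of_hasPullback ηL Gb)
  rw [nat a] at hR
  have hC := ck_isPullback n hP e
  let w : pullback (a.app e) (pullback.fst ηL Gb) ⟶ ((ck n).obj P).obj e :=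
    hC.lift (r1 ≫ ηK) (r2 ≫ pullback.snd ηL Gb) (by rw [Category.assoc]; exact hR.w)
  have hw : IsPullback r1 w ηK (((ck n).map p1).app e) :=
    IsPullback.of_bot (by rw [IsPullback.lift_snd]; exact hR) (hC.lift_fst _ _ _).symm hC
  have hfin : v ≫ w = ηP := by
    refine hC.hom_ext ?_ ?_
    · rw [Category.assoc, hC.lift_fst, pullback.lift_fst_assoc]
      exact nat p1
    · rw [Category.assoc, hC.lift_snd, pullback.lift_snd_assoc, Category.assoc, pullback.lift_snd]
      exact nat p2
  rw [show ((SimplicialObject.coskAdj n).unit.app P).app (op (SimplexCategory.mk (n + 1))) = v ≫ w from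
    hfin.symm]
  exact covering_comp (covering_of_isPullback hv hcov) (covering_of_isPullback hw (hK.2 n))

end Groth.Agent.HypSR
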