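import Groth.Agent.HypSR.Univ
import Groth.Agent.HypSR.FCLimits
import Groth.Agent.HypSite.Basic
import Groth.Prelude.Def_Hyper
import Mathlib

/-! Hypercoverings of the final object of the topos with all terms in a covering class. -/

set_option autoImplicit false
set_option maxHeartbeats 1000000

universe u

open CategoryTheory CategoryTheory.Limits Opposite

noncomputable section

namespace Groth.Agent.HypSR.SiteClass

variable {C : Type u} [SmallCategory C] [HasEqualizers C] [HasBinaryProducts C]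

instance finite_structuredArrow (m : ℕ) (P : SimplexCategoryᵒᵖ) :
    Finite (StructuredArrow P (SimplexCategory.Truncated.inclusion m).op) := by
  refine Finite.of_injective (β := Σ k : Fin (m + 1), ((SimplexCategory.mk k.1) ⟶ P.unop))
    (fun a => ⟨⟨a.right.unop.1.len, by have := a.right.unop.2; omega⟩, a.hom.unop⟩) ?_
  rintro ⟨⟨⟨⟩⟩, ⟨⟨x, hx⟩⟩, f⟩ ⟨⟨⟨⟩⟩, ⟨⟨y, hy⟩⟩, g⟩ h
  simp only [Sigma.mk.injEq, Fin.mk.injEq] at h
  obtain ⟨h1, h2⟩ := h
  obtain rfl : x = y := SimplexCategory.ext h1
  obtain rfl : f = g := Quiver.Hom.unop_inj (eq_of_heq h2)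
  rfl

instance finite_structuredArrow_hom (m : ℕ) (P : SimplexCategoryᵒᵖ)
    (a b : StructuredArrow P (SimplexCategory.Truncated.inclusion m).op) : Finite (a ⟶ b) :=
  Finite.of_injective (fun f => f.right.unop.hom) fun f g h =>
    StructuredArrow.ext _ _ (Quiver.Hom.unop_inj (InducedCategory.hom_ext h))

instance hasPointwise (m : ℕ) (F : (SimplexCategory.Truncated m)ᵒᵖ ⥤ FormalCoproduct.{u} C) :
    (SimplexCategory.Truncated.inclusion m).op.HasPointwiseRightKanExtension F := fun P => by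
  obtain ⟨p⟩ := P
  let z : (SimplexCategory.Truncated m)ᵒᵖ := op ⟨SimplexCategory.mk 0, Nat.zero_le m⟩
  let a : op p ⟶ (SimplexCategory.Truncated.inclusion m).op.obj z :=
    (SimplexCategory.const (SimplexCategory.mk 0) p 0).op
  haveI : Nonempty (StructuredArrow (op p) (SimplexCategory.Truncated.inclusion m).op) :=
    ⟨StructuredArrow.mk a⟩
  exact FCLimits.hasLimit _

variable [∀ (n : ℕ) (F : (SimplexCategory.Truncated n)ᵒᵖ ⥤ Limits.FormalCoproduct.{u} C),
  (SimplexCategory.Truncated.inclusion n).op.HasRightKanExtension F]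

/-- `cosk_n sk_n`. -/
abbrev ck (n : ℕ) : SimplicialObject (FormalCoproduct.{u} C) ⥤ SimplicialObject (FormalCoproduct.{u} C) :=
  SimplicialObject.truncation n ⋙ SimplicialObject.Truncated.cosk n

/-- An object of the truncated simplex category. -/
abbrev tr (m : ℕ) (j : SimplexCategory) (hj : j.len ≤ m) : (SimplexCategory.Truncated m)ᵒᵖ := op ⟨j, hj⟩

/-- Projections of `cosk_m sk_m M`. -/
def proj {m : ℕ} (M : SimplicialObject (FormalCoproduct.{u} C)) {P j : SimplexCategory}
    (hj : j.len ≤ m) (a : j ⟶ P) : ((ck m).obj M).obj (op P) ⟶ M.obj (op j) :=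
  ((ck m).obj M).map a.op ≫
    ((SimplicialObject.coskAdj m).counit.app ((SimplicialObject.truncation m).obj M)).app (tr m j hj)

@[reassoc]
theorem unit_proj {m : ℕ} (M : SimplicialObject (FormalCoproduct.{u} C)) {P j : SimplexCategory}
    (hj : j.len ≤ m) (a : j ⟶ P) :
    ((SimplicialObject.coskAdj m).unit.app M).app (op P) ≫ proj M hj a = M.map a.op := by
  have h := congrArg (fun t => t.app (tr m j hj)) ((SimplicialObject.coskAdj m).left_triangle_components M)
  rw [proj, ← Category.assoc]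
  erw [← ((SimplicialObject.coskAdj m).unit.app M).naturality a.op, Category.assoc]
  conv_rhs => rw [← Category.comp_id (M.map a.op)]
  congr 1

@[reassoc]
theorem map_proj {m : ℕ} {M N : SimplicialObject (FormalCoproduct.{u} C)} (f : M ⟶ N)
    {P j : SimplexCategory} (hj : j.len ≤ m) (a : j ⟶ P) :
    ((ck m).map f).app (op P) ≫ proj N hj a = proj M hj a ≫ f.app (op j) := by
  have h := congrArg (fun t => t.app (tr m j hj))
    ((SimplicialObject.coskAdj m).counit.naturality ((SimplicialObject.truncation m).map f))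
  rw [proj, proj, ← Category.assoc, ← ((ck m).map f).naturality a.op, Category.assoc, Category.assoc]
  congr 1

@[reassoc]
theorem proj_map {m : ℕ} (M : SimplicialObject (FormalCoproduct.{u} C)) {P i j : SimplexCategory}
    (hi : i.len ≤ m) (hj : j.len ≤ m) (c : i ⟶ j) (a : j ⟶ P) :
    proj M hj a ≫ M.map c.op = proj M hi (c ≫ a) := by
  have h := ((SimplicialObject.coskAdj m).counit.app ((SimplicialObject.truncation m).obj M)).naturality
    (X := tr m j hj) (Y := tr m i hi) (Quiver.Hom.op (InducedCategory.homMk c))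
  rw [proj, proj, op_comp, Functor.map_comp, Category.assoc, Category.assoc]
  congr 1
  exact h.symm

theorem ck_hom_ext {m : ℕ} (M : SimplicialObject (FormalCoproduct.{u} C)) {P : SimplexCategory}
    {T : FormalCoproduct.{u} C} {f g : T ⟶ ((ck m).obj M).obj (op P)}
    (h : ∀ (j : SimplexCategory) (hj : j.len ≤ m) (a : j ⟶ P), f ≫ proj M hj a = g ≫ proj M hj a) :
    f = g :=
  (Functor.isPointwiseRightKanExtensionOfIsRightKanExtension ((ck m).obj M)
    ((SimplicialObject.coskAdj m).counit.app ((SimplicialObject.truncation m).obj M)) (op P)).hom_ext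
    fun s => h s.right.unop.1 s.right.unop.2 s.hom.unop

theorem covering_unit {J : GrothendieckTopology C} (B : Set C)
    (hB : ∀ U : C, ∃ (ι : Type u) (Y : ι → C) (f : ∀ i, Y i ⟶ U), Sieve.ofArrows Y f ∈ J U ∧ ∀ i, Y i ∈ B)
    (n : ℕ) : Hyper.IsSRCovering J (((SimplicialObject.coskAdj n).unit.app (Univ.obj (fun W => W ∈ B))).app
      (op (SimplexCategory.mk (n + 1)))) := by
  rw [covering_iff]
  intro W y
  obtain ⟨ι, V, f, hf, hV⟩ := hB W
  refine J.superset_covering ?_ hf
  intro W' g hg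
  obtain ⟨i, k, rfl⟩ := (Sieve.mem_ofArrows_iff _ _ _).1 hg
  refine Sieve.downward_closed _ ?_ k
  let y' := (FormalCoproduct.incl C).map (f i) ≫ y
  let β : Univ.Bdry (fun W => W ∈ B) (SimplexCategory.mk (n + 1)) n (V i) :=
    { pnt := fun hj a => y' ≫ proj (Univ.obj _) hj a
      compat := fun hi hj c a => by rw [Category.assoc, proj_map] }
  refine ⟨Univ.lift β le_rfl (Nat.lt_succ_self n) (hV i), ck_hom_ext _ fun j hj a => ?_⟩
  rw [Category.assoc, unit_proj, Univ.lift_map β le_rfl (Nat.lt_succ_self n) (hV i) hj a]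

theorem exists_hypercoveringSite {J : GrothendieckTopology C} (B : Set C)
    (hB : ∀ U : C, ∃ (ι : Type u) (Y : ι → C) (f : ∀ i, Y i ⟶ U), Sieve.ofArrows Y f ∈ J U ∧ ∀ i, Y i ∈ B) :
    ∃ K : SimplicialObject (FormalCoproduct.{u} C), Hyper.IsHypercoveringSite J K ∧
      ∀ (n : ℕ) (i : (K.obj (op (SimplexCategory.mk n))).I), (K.obj (op (SimplexCategory.mk n))).obj i ∈ B := by
  refine ⟨Univ.obj (fun W => W ∈ B), ⟨⟨fun {U} s => ?_⟩, HypSite.isLocallySurjective_pair J _ (covering_unit B hB 0),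
    fun n _ => HypSite.isLocallySurjective_map J (covering_unit B hB n)⟩, fun n i => i.2 _⟩
  obtain ⟨ι, V, f, hf, hV⟩ := hB U
  refine J.superset_covering ?_ hf
  intro W g hg
  obtain ⟨i, k, rfl⟩ := (Sieve.mem_ofArrows_iff _ _ _).1 hg
  refine Sieve.downward_closed _ ?_ k
  refine ⟨HypSite.el (FormalCoproduct.Hom.fromIncl (Y := (Univ.obj (fun W => W ∈ B)).obj (op (SimplexCategory.mk 0)))
    ⟨(Functor.const _).obj (V i), fun _ => hV i⟩ (𝟙 (V i))), ?_⟩
  haveI : Subsingleton (ToType ((⊤_ (Cᵒᵖ ⥤ Type u)).obj (op (V i)))) := by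
    have ht : IsTerminal ((⊤_ (Cᵒᵖ ⥤ Type u)).obj (op (V i))) :=
      IsTerminal.isTerminalObj ((evaluation Cᵒᵖ (Type u)).obj (op (V i))) _ terminalIsTerminal
    letI := (Types.isTerminalEquivUnique _) ht
    infer_instance
  exact Subsingleton.elim _ _

end Groth.Agent.HypSR.SiteClass
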