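import Groth.Agent.HypSR.Basic
import Mathlib

/-! The universal hypercovering with objects in a covering class. -/

set_option autoImplicit false
set_option maxHeartbeats 1000000

universe u

open CategoryTheory CategoryTheory.Limits Opposite

noncomputable section

namespace Groth.Agent.HypSR.Univ

variable {D : Type u} [Category.{u} D] (B : D → Prop)

/-- Faces of a simplex. -/
abbrev NE (m : SimplexCategory) : Type := {s : Finset (Fin (m.len + 1)) // s.Nonempty}

/-- The whole simplex. -/
abbrev top (m : SimplexCategory) : NE m := ⟨Finset.univ, Finset.univ_nonempty⟩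

theorem le_top {m : SimplexCategory} (s : NE m) : s ≤ top m := Finset.subset_univ s.1

/-- Image of faces. -/
def im {a b : SimplexCategory} (θ : a ⟶ b) (s : NE a) : NE b :=
  ⟨s.1.image θ.toOrderHom, s.2.image _⟩

theorem im_mono {a b : SimplexCategory} (θ : a ⟶ b) : Monotone (im θ) :=
  fun _ _ h => Finset.image_subset_image h

theorem im_id {a : SimplexCategory} (s : NE a) : im (𝟙 a) s = s := Subtype.ext (by simp [im])

theorem im_comp {a b c : SimplexCategory} (θ : a ⟶ b) (ψ : b ⟶ c) (s : NE a) :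
    im (θ ≫ ψ) s = im ψ (im θ s) := Subtype.ext (by simp [im, Finset.image_image])

/-- Image of faces, as a functor. -/
abbrev img {a b : SimplexCategory} (θ : a ⟶ b) : (NE a)ᵒᵖ ⥤ (NE b)ᵒᵖ := (im_mono θ).functor.op

/-- Diagrams on faces with values in the class. -/
abbrev Idx (m : SimplexCategory) : Type u := {F : (NE m)ᵒᵖ ⥤ D // ∀ s, B (F.obj s)}

theorem pre_id {a : SimplexCategory} (F : (NE a)ᵒᵖ ⥤ D) : img (𝟙 a) ⋙ F = F := by
  have h : img (𝟙 a) = 𝟭 _ :=
    CategoryTheory.Functor.ext (fun s => congrArg op (im_id s.unop)) fun _ _ _ => Subsingleton.elim _ _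
  rw [h, Functor.id_comp]

theorem pre_comp {a b c : SimplexCategory} (θ : a ⟶ b) (ψ : b ⟶ c) (F : (NE c)ᵒᵖ ⥤ D) :
    img (θ ≫ ψ) ⋙ F = img θ ⋙ img ψ ⋙ F := by
  have h : img (θ ≫ ψ) = img θ ⋙ img ψ :=
    CategoryTheory.Functor.ext (fun s => congrArg op (im_comp θ ψ s.unop)) fun _ _ _ => Subsingleton.elim _ _
  rw [h, Functor.assoc]

theorem map_eqToHom {P : Type} [Preorder P] (F : Pᵒᵖ ⥤ D) {x y z : Pᵒᵖ} (f : x ⟶ y) (g : x ⟶ z) (h : y = z)
    (h' : F.obj y = F.obj z) : F.map f ≫ eqToHom h' = F.map g := by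
  subst h
  simp [Subsingleton.elim f g]

/-- The universal simplicial family. -/
def obj : SimplicialObject (FormalCoproduct.{u} D) where
  obj m := ⟨Idx B m.unop, fun F => F.1.obj (op (top m.unop))⟩
  map {m m'} θ :=
    { f := fun F => ⟨img θ.unop ⋙ F.1, fun s => F.2 _⟩
      φ := fun F => F.1.map (homOfLE (le_top (im θ.unop (top m'.unop)))).op }
  map_id m := FormalCoproduct.hom_ext (funext fun F => Subtype.ext (pre_id F.1)) fun F => by
    refine (map_eqToHom F.1 _ (𝟙 _) (congrArg op (im_id _)) _).trans ?_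
    simp
  map_comp {m m' m''} θ ψ := FormalCoproduct.hom_ext
    (funext fun F => Subtype.ext (pre_comp ψ.unop θ.unop F.1)) fun F => by
    refine (map_eqToHom F.1 _ ((homOfLE (le_top (im θ.unop (top m'.unop)))).op ≫
      (img θ.unop).map (homOfLE (le_top (im ψ.unop (top m''.unop)))).op) (congrArg op (im_comp _ _ _)) _).trans ?_
    simp [Functor.map_comp]

theorem card_eq {m : SimplexCategory} (T : NE m) : T.1.card = T.1.card - 1 + 1 :=
  (Nat.succ_pred_eq_of_pos T.2.card_pos).symm

/-- Enumeration of a face. -/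
def en {m : SimplexCategory} (T : NE m) : SimplexCategory.mk (T.1.card - 1) ⟶ m :=
  SimplexCategory.Hom.mk (T.1.orderEmbOfFin (card_eq T)).toOrderHom

theorem im_en {m : SimplexCategory} (T : NE m) : im (en T) (top _) = T :=
  Subtype.ext (Finset.image_orderEmbOfFin_univ T.1 (card_eq T))

instance mono_en {m : SimplexCategory} (T : NE m) : Mono (en T) :=
  SimplexCategory.mono_iff_injective.2 (T.1.orderEmbOfFin (card_eq T)).injective

/-- Maps with image inside a face factor through its enumeration. -/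
theorem exists_factor {a m : SimplexCategory} (θ : a ⟶ m) (T : NE m) (h : im θ (top a) ≤ T) :
    ∃ c : a ⟶ SimplexCategory.mk (T.1.card - 1), c ≫ en T = θ := by
  classical
  have hmem : ∀ i, θ.toOrderHom i ∈ Set.range (T.1.orderEmbOfFin (card_eq T)) := fun i => by
    rw [Finset.range_orderEmbOfFin]
    exact h (Finset.mem_image_of_mem _ (Finset.mem_univ i))
  choose c hc using hmem
  refine ⟨SimplexCategory.Hom.mk ⟨c, fun i j hij => ?_⟩, ?_⟩
  · exact (OrderEmbedding.le_iff_le _).1 (by rw [hc i, hc j]; exact θ.toOrderHom.monotone hij)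
  · ext i : 3
    exact congrArg Fin.val (hc i) |> Fin.ext

theorem en_len {m : SimplexCategory} {n : ℕ} (hm : m.len ≤ n + 1) (T : NE m) (hT : T ≠ top m) :
    (SimplexCategory.mk (T.1.card - 1)).len ≤ n := by
  have h : T.1 ⊂ Finset.univ := lt_of_le_of_ne (Finset.subset_univ _) fun h => hT (Subtype.ext h)
  have := Finset.card_lt_card h
  simp only [Finset.card_univ, Fintype.card_fin] at this
  simp only [SimplexCategory.len_mk]
  omega

section Lift

variable {m : SimplexCategory} {n : ℕ}

/-- A compatible family of diagrams and points on the small faces. -/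
structure Bdry (B : D → Prop) (m : SimplexCategory) (n : ℕ) (V : D) where
  /-- points -/
  pnt : ∀ {j : SimplexCategory}, j.len ≤ n → (j ⟶ m) → ((FormalCoproduct.incl D).obj V ⟶ (obj B).obj (op j))
  compat : ∀ {i j : SimplexCategory} (hi : i.len ≤ n) (hj : j.len ≤ n) (c : i ⟶ j) (a : j ⟶ m),
    pnt hj a ≫ (obj B).map c.op = pnt hi (c ≫ a)

variable {B} {V : D}

/-- The diagram of a point. -/
def dg {j : SimplexCategory} (y : (FormalCoproduct.incl D).obj V ⟶ (obj B).obj (op j)) : (NE j)ᵒᵖ ⥤ D :=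
  (y.f PUnit.unit).1

/-- The arrow of a point. -/
def ar {j : SimplexCategory} (y : (FormalCoproduct.incl D).obj V ⟶ (obj B).obj (op j)) :
    V ⟶ (dg y).obj (op (top j)) :=
  y.φ PUnit.unit

theorem dg_map {i j : SimplexCategory} (y : (FormalCoproduct.incl D).obj V ⟶ (obj B).obj (op j)) (c : i ⟶ j) :
    dg (y ≫ (obj B).map c.op) = img c ⋙ dg y := rfl

theorem ar_eq {j : SimplexCategory} {y y' : (FormalCoproduct.incl D).obj V ⟶ (obj B).obj (op j)} (h : y = y') :
    ar y = ar y' ≫ eqToHom (by rw [h]) := by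
  subst h
  simp

theorem ar_map {i j : SimplexCategory} (y : (FormalCoproduct.incl D).obj V ⟶ (obj B).obj (op j)) (c : i ⟶ j) :
    ar (y ≫ (obj B).map c.op) = ar y ≫ (dg y).map (homOfLE (le_top (im c (top i)))).op := rfl

theorem pt_ext {j : SimplexCategory} {y y' : (FormalCoproduct.incl D).obj V ⟶ (obj B).obj (op j)}
    (h : dg y = dg y') (h' : ar y ≫ eqToHom (by rw [h]) = ar y') : y = y' :=
  (FormalCoproduct.hom_ext_iff' _ _).2 fun _ => ⟨Subtype.ext h, h'⟩

variable (β : Bdry B m n V) (hm : m.len ≤ n + 1)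

/-- Proper faces. -/
abbrev Prp (m : SimplexCategory) : Type := {T : NE m // T ≠ top m}

/-- The diagram of a face. -/
abbrev fdg (T : Prp m) : (NE (SimplexCategory.mk (T.1.1.card - 1)))ᵒᵖ ⥤ D :=
  dg (β.pnt (en_len hm T.1 T.2) (en T.1))

theorem fdg_pre {T : Prp m} {i : SimplexCategory} (hi : i.len ≤ n) (b : i ⟶ m)
    (c : i ⟶ SimplexCategory.mk (T.1.1.card - 1)) (h : c ≫ en T.1 = b) :
    dg (β.pnt hi b) = img c ⋙ fdg β hm T := by
  subst h
  rw [← β.compat hi (en_len hm T.1 T.2) c (en T.1)]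
  rfl

theorem exists_sub {S T : Prp m} (h : T.1 ≤ S.1) :
    ∃ c : SimplexCategory.mk (T.1.1.card - 1) ⟶ SimplexCategory.mk (S.1.1.card - 1), c ≫ en S.1 = en T.1 :=
  exists_factor _ _ (by rw [im_en]; exact h)

/-- Value on proper faces. -/
def G : (Prp m)ᵒᵖ ⥤ D where
  obj T := (fdg β hm T.unop).obj (op (top _))
  map {S T} u := (fdg β hm S.unop).map (homOfLE (le_top (im (exists_sub u.unop.le).choose (top _)))).op ≫
    eqToHom (congrArg (fun F => F.obj (op (top _)))
      (fdg_pre β hm (T := S.unop) (en_len hm T.unop.1 T.unop.2) _ _ (exists_sub u.unop.le).choose_spec)).symm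
  map_id S := by
    have h : (exists_sub (𝟙 S : S ⟶ S).unop.le).choose = 𝟙 _ := by
      rw [← cancel_mono (en S.unop.1), (exists_sub (𝟙 S : S ⟶ S).unop.le).choose_spec, Category.id_comp]
    refine (map_eqToHom _ _ (𝟙 _) (congrArg op ?_) _).trans (CategoryTheory.Functor.map_id _ _)
    rw [h]
    exact im_id _
  map_comp {R S T} u v := by
    set c := (exists_sub u.unop.le).choose with hc
    set c' := (exists_sub v.unop.le).choose with hc'
    set c'' := (exists_sub (u ≫ v).unop.le).choose with hc''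
    have h := fdg_pre β hm (T := R.unop) (en_len hm S.unop.1 S.unop.2) _ _ (exists_sub u.unop.le).choose_spec
    have h' : c'' = c' ≫ c := by
      rw [← cancel_mono (en R.unop.1), (exists_sub (u ≫ v).unop.le).choose_spec, Category.assoc,
        (exists_sub u.unop.le).choose_spec, (exists_sub v.unop.le).choose_spec]
    have e := Functor.congr_hom h (homOfLE (le_top (im c' (top _)))).op
    rw [e]
    simp only [Functor.comp_map, Category.assoc, eqToHom_trans, eqToHom_trans_assoc, eqToHom_refl,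
      Category.id_comp]
    erw [eqToHom_refl, Category.id_comp, ← Functor.map_comp_assoc]
    have hx : (op (im c'' (top _)) : (NE _)ᵒᵖ) = op (im c (im c' (top _))) := by rw [h', im_comp]
    have := map_eqToHom (fdg β hm R.unop) (homOfLE (le_top (im c'' (top _)))).op
      ((homOfLE (le_top (im c (top _)))).op ≫ (img c).map (homOfLE (le_top (im c' (top _)))).op) hx
      (congrArg _ hx)
    rw [← this, Category.assoc, eqToHom_trans]

/-- The arrows from the point. -/
theorem ar_natural {S T : (Prp m)ᵒᵖ} (u : S ⟶ T) :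
    ar (β.pnt (en_len hm S.unop.1 S.unop.2) (en S.unop.1)) ≫ (G β hm).map u =
      ar (β.pnt (en_len hm T.unop.1 T.unop.2) (en T.unop.1)) := by
  let hT := en_len hm T.unop.1 T.unop.2
  have e := ar_eq ((β.compat hT (en_len hm S.unop.1 S.unop.2) (exists_sub u.unop.le).choose (en S.unop.1)).trans
    (congrArg (β.pnt hT) (exists_sub u.unop.le).choose_spec)).symm
  rw [e, ar_map]
  exact (Category.assoc _ _ _).symm

variable (hV : B V) (hB : ∀ (j : SimplexCategory) (hj : j.len ≤ n) (a : j ⟶ m) (s), B ((dg (β.pnt hj a)).obj s))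

open Classical in
/-- Faces, with the whole simplex adjoined. -/
def L : (NE m)ᵒᵖ ⥤ WithInitial (Prp m)ᵒᵖ where
  obj S := if h : S.unop = top m then WithInitial.star else WithInitial.of (op ⟨S.unop, h⟩)
  map {S T} u := Classical.choice (by
    by_cases hS : S.unop = top m
    · rw [dif_pos hS]
      exact ⟨WithInitial.starInitial.to _⟩
    · have hT : T.unop ≠ top m := fun h => hS (le_antisymm (le_top _) (h ▸ u.unop.le))
      rw [dif_neg hS, dif_neg hT]
      exact ⟨(homOfLE (show (⟨T.unop, hT⟩ : Prp m) ≤ ⟨S.unop, hS⟩ from u.unop.le)).op⟩)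
  map_id S := Subsingleton.elim (h := withInitial_subsingleton _ _) _ _
  map_comp u v := Subsingleton.elim (h := withInitial_subsingleton _ _) _ _
where
  withInitial_subsingleton (x y : WithInitial (Prp m)ᵒᵖ) : Subsingleton (x ⟶ y) := by
    cases x <;> cases y
    · rename_i p q
      exact ⟨fun a b => Subsingleton.elim (α := p ⟶ q) a b⟩
    · exact ⟨fun a => a.elim⟩
    · exact ⟨fun a b => rfl⟩
    · exact ⟨fun a b => rfl⟩

theorem thin_map {P : Type} [Preorder P] (F : Pᵒᵖ ⥤ D) {x y x' y' : Pᵒᵖ} (hx : x = x') (hy : y = y')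
    (f : x ⟶ y) (g : x' ⟶ y') :
    F.map f = eqToHom (congrArg F.obj hx) ≫ F.map g ≫ eqToHom (congrArg F.obj hy).symm := by
  subst hx hy
  simp [Subsingleton.elim f g]

theorem im_inj {m : SimplexCategory} (T : NE m) : Function.Injective (im (en T)) := fun x y h =>
  Subtype.ext (Finset.image_injective (T.1.orderEmbOfFin (card_eq T)).injective (congrArg Subtype.val h))

theorem proper_of_len {j : SimplexCategory} (hj : j.len ≤ n) (hm' : n < m.len) (a : j ⟶ m) (s : NE j) :
    im a s ≠ top m := fun h => by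
  have h1 : (Finset.univ : Finset (Fin (m.len + 1))).card ≤ s.1.card := by
    rw [show (Finset.univ : Finset (Fin (m.len + 1))) = (im a s).1 from (congrArg Subtype.val h).symm]
    exact Finset.card_image_le
  have h2 := s.1.card_le_univ
  simp only [Finset.card_univ, Fintype.card_fin] at h1 h2
  omega

/-- The extended diagram. -/
def ext : (NE m)ᵒᵖ ⥤ D :=
  L ⋙ LL
where
  LL : WithInitial (Prp m)ᵒᵖ ⥤ D :=
    WithInitial.lift (G β hm) (fun T => ar (β.pnt (en_len hm T.unop.1 T.unop.2) (en T.unop.1)))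
      (fun _ _ u => ar_natural β hm u)

open Classical in
theorem ext_obj {S : (NE m)ᵒᵖ} (h : S.unop ≠ top m) :
    (ext β hm).obj S = (G β hm).obj (op ⟨S.unop, h⟩) := by
  simp [ext, L, dif_neg h]
  rfl

open Classical in
theorem ext_obj_top : (ext β hm).obj (op (top m)) = V := by
  simp [ext, L]
  rfl

open Classical in
theorem ext_map {S T : (NE m)ᵒᵖ} (u : S ⟶ T) (hS : S.unop ≠ top m) (hT : T.unop ≠ top m) :
    (ext β hm).map u = eqToHom (ext_obj β hm hS) ≫
      (G β hm).map ((homOfLE (show (⟨T.unop, hT⟩ : Prp m) ≤ ⟨S.unop, hS⟩ from u.unop.le)).op) ≫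
        eqToHom (ext_obj β hm hT).symm := by
  have e₁ : (L (m := m)).obj S = WithInitial.of (op ⟨S.unop, hS⟩) := dif_neg hS
  have e₂ : (L (m := m)).obj T = WithInitial.of (op ⟨T.unop, hT⟩) := dif_neg hT
  let w := (homOfLE (show (⟨T.unop, hT⟩ : Prp m) ≤ ⟨S.unop, hS⟩ from u.unop.le)).op
  have : (L (m := m)).map u = eqToHom e₁ ≫ WithInitial.incl.map w ≫ eqToHom e₂.symm :=
    Subsingleton.elim (h := L.withInitial_subsingleton _ _) _ _
  show (ext.LL β hm).map ((L (m := m)).map u) = _
  rw [this, Functor.map_comp, Functor.map_comp, eqToHom_map, eqToHom_map]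
  rfl


open Classical in
theorem ext_map_top (T : (NE m)ᵒᵖ) (hT : T.unop ≠ top m) (u : op (top m) ⟶ T) :
    eqToHom (ext_obj_top β hm).symm ≫ (ext β hm).map u =
      ar (β.pnt (en_len hm T.unop hT) (en T.unop)) ≫ eqToHom (ext_obj β hm hT).symm := by
  have e₁ : (L (m := m)).obj (op (top m)) = WithInitial.star := dif_pos rfl
  have e₂ : (L (m := m)).obj T = WithInitial.of (op ⟨T.unop, hT⟩) := dif_neg hT
  have : (L (m := m)).map u = eqToHom e₁ ≫ WithInitial.starInitial.to _ ≫ eqToHom e₂.symm :=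
    Subsingleton.elim (h := L.withInitial_subsingleton _ _) _ _
  show _ ≫ (ext.LL β hm).map ((L (m := m)).map u) = _
  rw [this, Functor.map_comp, Functor.map_comp, eqToHom_map, eqToHom_map]
  erw [eqToHom_trans_assoc]
  erw [eqToHom_refl, Category.id_comp]
  rfl

variable (hm' : n < m.len)
include hm'

theorem exists_q {j : SimplexCategory} (hj : j.len ≤ n) (a : j ⟶ m) (s : NE j) :
    ∃ q : SimplexCategory.mk (s.1.card - 1) ⟶ SimplexCategory.mk ((im a s).1.card - 1),
      q ≫ en (im a s) = en s ≫ a ∧ im q (top _) = top _ := by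
  obtain ⟨q, hq⟩ := exists_factor (en s ≫ a) (im a s) (by rw [im_comp, im_en])
  exact ⟨q, hq, im_inj _ (by rw [← im_comp, hq, im_comp, im_en, im_en])⟩

theorem sub_len {j : SimplexCategory} (hj : j.len ≤ n) (s : NE j) :
    (SimplexCategory.mk (s.1.card - 1)).len ≤ n := by
  have h2 := s.1.card_le_univ
  simp only [Finset.card_univ, Fintype.card_fin] at h2
  simp only [SimplexCategory.len_mk]
  omega

omit hm' in
theorem pre_en {j : SimplexCategory} (hj : j.len ≤ n) (a : j ⟶ m) {i : SimplexCategory} (hi : i.len ≤ n)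
    (c : i ⟶ j) : dg (β.pnt hi (c ≫ a)) = img c ⋙ dg (β.pnt hj a) := by
  rw [← β.compat hi hj c a]
  rfl

theorem obj_eq {j : SimplexCategory} (hj : j.len ≤ n) (a : j ⟶ m) (s : (NE j)ᵒᵖ) :
    (G β hm).obj (op ⟨im a s.unop, proper_of_len hj hm' a _⟩) = (dg (β.pnt hj a)).obj s := by
  obtain ⟨q, hq, hq'⟩ := exists_q hm' hj a s.unop
  have hl := sub_len hm' hj s.unop
  have h1 := fdg_pre β hm (T := ⟨im a s.unop, proper_of_len hj hm' a _⟩) hl _ q hq
  have h2 := pre_en β hj a hl (en s.unop)
  have h := Functor.congr_obj (h1.symm.trans h2) (op (top _))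
  exact (congrArg (fdg β hm ⟨im a s.unop, proper_of_len hj hm' a _⟩).obj (congrArg op hq'.symm)).trans
    (h.trans (congrArg (fun t => (dg (β.pnt hj a)).obj (op t)) (im_en s.unop)))

theorem ext_pre {j : SimplexCategory} (hj : j.len ≤ n) (a : j ⟶ m) :
    img a ⋙ ext β hm = dg (β.pnt hj a) := by
  refine CategoryTheory.Functor.ext
    (fun s => (ext_obj β hm (S := op (im a s.unop)) (proper_of_len hj hm' a _)).trans
      (obj_eq β hm hm' hj a s)) fun s t u => ?_
  obtain ⟨q, hq, hq'⟩ := exists_q hm' hj a s.unop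
  obtain ⟨e, he⟩ := exists_factor (en t.unop) s.unop (by rw [im_en]; exact u.unop.le)
  have hl := sub_len hm' hj s.unop
  let Fs : Prp m := ⟨im a s.unop, proper_of_len hj hm' a _⟩
  let Ft : Prp m := ⟨im a t.unop, proper_of_len hj hm' a _⟩
  have hle : Ft.1 ≤ Fs.1 := im_mono a u.unop.le
  have h1 := fdg_pre β hm (T := Fs) hl _ q hq
  have h2 := pre_en β hj a hl (en s.unop)
  have h := Functor.congr_hom (h2.symm.trans h1) (homOfLE (le_top (im e (top _)))).op
  simp only [Functor.comp_map] at h
  have ecF : im (exists_sub hle).choose (top _) = im q (im e (top _)) := im_inj Fs.1 (by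
    rw [← im_comp, (exists_sub hle).choose_spec, im_en, ← im_comp, hq, ← im_comp, ← Category.assoc, he,
      im_comp, im_en])
  have he' : im (en s.unop) (im e (top _)) = t.unop := by rw [← im_comp, he, im_en]
  rw [Functor.comp_map]
  erw [ext_map β hm _ (proper_of_len hj hm' a _) (proper_of_len hj hm' a _),
    thin_map (dg (β.pnt hj a)) (congrArg op (im_en s.unop)).symm (congrArg op he').symm u
      ((img (en s.unop)).map (homOfLE (le_top (im e (top _)))).op), h]
  show _ ≫ ((fdg β hm Fs).map (homOfLE (le_top (im (exists_sub hle).choose (top _)))).op ≫ eqToHom _) ≫ _ = _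
  rw [thin_map (fdg β hm Fs) (congrArg op hq').symm (congrArg op ecF) _
    ((img q).map (homOfLE (le_top (im e (top _)))).op)]
  refine eq_of_heq ?_
  repeat (first
    | refine (eqToHom_comp_heq _ _).trans ?_
    | refine (comp_eqToHom_heq _ _).trans ?_
    | refine HEq.trans ?_ (eqToHom_comp_heq _ _).symm
    | refine HEq.trans ?_ (comp_eqToHom_heq _ _).symm)
  rfl

theorem ext_B (hV : B V) (s : (NE m)ᵒᵖ) : B ((ext β hm).obj s) := by
  by_cases h : s.unop = top m
  · obtain ⟨s⟩ := s
    subst h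
    rw [ext_obj_top]
    exact hV
  · rw [ext_obj β hm h]
    exact ((β.pnt (en_len hm s.unop h) (en s.unop)).f PUnit.unit).2 _

/-- The lifted point. -/
def lift (hV : B V) : (FormalCoproduct.incl D).obj V ⟶ (obj B).obj (op m) :=
  FormalCoproduct.Hom.fromIncl (Y := (obj B).obj (op m)) ⟨ext β hm, ext_B β hm hm' hV⟩
    (eqToHom (ext_obj_top β hm).symm)

theorem lift_map (hV : B V) {j : SimplexCategory} (hj : j.len ≤ n) (a : j ⟶ m) :
    lift β hm hm' hV ≫ (obj B).map a.op = β.pnt hj a := by
  refine pt_ext (ext_pre β hm hm' hj a) ?_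
  have hT := proper_of_len hj hm' a (top j)
  obtain ⟨q, hq⟩ := exists_factor a (im a (top j)) le_rfl
  have hq' : im q (top j) = top _ := im_inj _ (by rw [← im_comp, hq, im_en])
  rw [ar_map]
  show (eqToHom (ext_obj_top β hm).symm ≫ (ext β hm).map (homOfLE (le_top (im a (top j)))).op) ≫ _ = _
  erw [ext_map_top β hm (op (im a (top j))) hT, Category.assoc, eqToHom_trans]
  have e := ar_eq ((β.compat hj (en_len hm (im a (top j)) hT) q (en (im a (top j)))).trans
    (congrArg (β.pnt hj) hq)).symm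
  rw [e, ar_map]
  erw [thin_map _ rfl (congrArg op hq') _ (𝟙 _), CategoryTheory.Functor.map_id, Category.id_comp, Category.assoc,
    Category.id_comp, eqToHom_trans]

end Lift

end Groth.Agent.HypSR.Univ
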