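import Groth.Agent.HypSR.Univ
import Groth.Agent.HypSR.Refine
import Mathlib

/-! Hypercoverings of an object with all terms in a covering class. -/

set_option autoImplicit false

universe u

open CategoryTheory CategoryTheory.Limits Opposite

noncomputable section

namespace Groth.Agent.HypSR

variable {C : Type u} [SmallCategory C] [HasPullbacks C] {J : GrothendieckTopology C} {X : C}
  [∀ (n : ℕ) (F : (SimplexCategory.Truncated n)ᵒᵖ ⥤ Limits.FormalCoproduct.{u} (Over X)),
    (SimplexCategory.Truncated.inclusion n).op.HasRightKanExtension F]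

theorem exists_hypercovering_in_class (B : Set C)
    (hB : ∀ U : C, ∃ S : Sieve U, S ∈ J U ∧ ∀ ⦃W : C⦄ (g : W ⟶ U), S g →
      ∃ (V : C) (k : W ⟶ V) (h : V ⟶ U), V ∈ B ∧ k ≫ h = g) :
    ∃ K : SimplicialObject (FormalCoproduct.{u} (Over X)), Hyper.IsHypercovering J X K ∧
      ∀ (n : ℕ) (i : (K.obj (op (SimplexCategory.mk n))).I),
        ((K.obj (op (SimplexCategory.mk n))).obj i).left ∈ B := by
  let P : Over X → Prop := fun W => W.left ∈ B
  refine ⟨Univ.obj P, ⟨?_, fun n => ?_⟩, fun n i => i.2 _⟩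
  · obtain ⟨S, hS, h⟩ := hB X
    refine J.superset_covering ?_ hS
    intro W g hg
    obtain ⟨V, k, f, hV, rfl⟩ := h g hg
    exact (Sieve.mem_ofArrows_iff _ _ _).2 ⟨⟨(Functor.const _).obj (Over.mk f), fun _ => hV⟩, k, rfl⟩
  · rw [covering_iff]
    intro W y
    obtain ⟨S, hS, h⟩ := hB W.left
    rw [GrothendieckTopology.mem_over_iff]
    refine J.superset_covering ?_ hS
    intro W' g hg
    obtain ⟨V, k, f, hV, rfl⟩ := h g hg
    rw [Sieve.overEquiv_iff]
    let fV : Over.mk (f ≫ W.hom) ⟶ W := Over.homMk f rfl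
    let kV : Over.mk ((k ≫ f) ≫ W.hom) ⟶ Over.mk (f ≫ W.hom) :=
      Over.homMk k (Category.assoc _ _ _).symm
    have hfact : (Over.homMk (k ≫ f) rfl : Over.mk ((k ≫ f) ≫ W.hom) ⟶ W) = kV ≫ fV := by
      ext
      rfl
    rw [hfact]
    refine Sieve.downward_closed _ ?_ kV
    let y' := (FormalCoproduct.incl (Over X)).map fV ≫ y
    let β : Univ.Bdry P (SimplexCategory.mk (n + 1)) n (Over.mk (f ≫ W.hom)) :=
      { pnt := fun hj a => y' ≫ proj (Univ.obj P) hj a
        compat := fun hi hj c a => by rw [Category.assoc, proj_map] }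
    refine ⟨Univ.lift β le_rfl (Nat.lt_succ_self n) hV, ck_hom_ext _ fun j hj a => ?_⟩
    rw [Category.assoc, unit_proj, Univ.lift_map β le_rfl (Nat.lt_succ_self n) hV hj a]

theorem exists_hypercovering_of_covers (B : Set C)
    (h1 : ∀ U : C, ∃ (ι : Type u) (V : ι → C) (f : ∀ i, V i ⟶ U), Sieve.ofArrows V f ∈ J U ∧ ∀ i, V i ∈ B) :
    ∃ K : SimplicialObject (FormalCoproduct.{u} (Over X)), Hyper.IsHypercovering J X K ∧
      ∀ (n : ℕ) (i : (K.obj (op (SimplexCategory.mk n))).I),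
        ((K.obj (op (SimplexCategory.mk n))).obj i).left ∈ B := by
  refine exists_hypercovering_in_class B fun U => ?_
  obtain ⟨ι, V, f, hf, hV⟩ := h1 U
  refine ⟨_, hf, fun W g hg => ?_⟩
  obtain ⟨i, k, rfl⟩ := (Sieve.mem_ofArrows_iff _ _ _).1 hg
  exact ⟨V i, k, f i, hV i, rfl⟩

end Groth.Agent.HypSR
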